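import Cfsg.Agent.U5.Q1

/-! Involutions of the semilinear unitary group. -/

set_option autoImplicit false
set_option linter.unusedSectionVars false
set_option linter.unusedVariables false

namespace CF.U5

open Subgroup Equiv CF.Geom Module CF.Loc CF.LX CF.Dbl
open scoped commutatorElement

variable {K : Type} [Field K] [Fintype K] [CharP K 2] {m q : ℕ} {σ θ θ' : K ≃+* K} {a b c ζ ζ' : K}
  {g p k ξ α w w' : Perm (Fin m → K)} {u v x y e n n' u' v' : Fin m → K} {T T' S : Submodule K (Fin m → K)}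
  {H P O : Subgroup (Perm (Fin m → K))}

/-- the image of `g - 1` -/
abbrev im1 (g : Perm (Fin m → K)) : Submodule K (Fin m → K) := Submodule.span K (Set.range fun x => g x - x)

theorem mem_im1 (l : Sem σ 1 g) : x ∈ im1 g ↔ ∃ y, g y + y = x := by
  refine ⟨fun h => ?_, fun ⟨y, e⟩ => Submodule.subset_span ⟨y, (vsub _ _).trans e⟩⟩
  induction h using Submodule.span_induction with
  | mem _ h => exact h.imp fun y e => (vsub _ _).symm.trans e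
  | zero => exact ⟨0, by rw [l.zero, add_zero]⟩
  | add _ _ _ _ a b => obtain ⟨x, rfl⟩ := a; obtain ⟨y, rfl⟩ := b; exact ⟨x + y, by rw [l.add]; abel⟩
  | smul c _ _ a => obtain ⟨x, rfl⟩ := a; exact ⟨c • x, by rw [l.smul1, smul_add]⟩
theorem W_im1 (l : Sem σ 1 g) : g ∈ WX σ (im1 g) := ⟨l, fun x => Submodule.subset_span ⟨x, rfl⟩⟩
theorem dim_eq (f : Perm (Fin m → K)) (h : ∀ x, x ∈ T ↔ f x ∈ T') : finrank K T = finrank K T' :=
  Nat.pow_right_injective (Finite.one_lt_card (α := K)) (by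
    simpa only [card_sub] using Nat.card_congr (Equiv.subtypeEquiv f h))
theorem W_mk (s : Iv σ) (l : Ti σ T) {r : ℕ} (v : Fin r → Fin m → K) (h : ∀ i, v i ∈ T) :
    ∃ w ∈ WX σ T, ∀ x, w x = x + ∑ i, hf σ x (v i) • v i := by
  induction r with
  | zero => exact ⟨1, one_mem _, by simp⟩
  | succ r ih =>
    obtain ⟨w, a, b⟩ := ih (fun i => v i.succ) fun i => h _
    exact ⟨_, mul_mem a (E_W (h 0) (zero_mem _) 1), fun x => by
      simp [E_ap (ok_tv s (l _ (h 0) _ (h 0)) (map_one σ)), a.1.add, a.1.smul1, W_fix a (l _ (h 0)), b x, Fin.sum_univ_succ]; abel⟩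

variable (σ) in
/-- the conclusion of `good` -/
def Gd (α : Perm (Fin m → K)) : Prop := ∃ R : Subgroup (Perm (Fin m → K)), IsPGroup 2 R ∧
    R ≤ SU σ m ⊓ 𝐂₁(α) ∧ ∃ r ∈ ⁅R, R⁆, r * r = 1 ∧ r ≠ 1 ∧ ∃ g ∈ SU σ m, g * α * g⁻¹ = α * r

theorem Gd.cj (h : Gd σ α) (i : k ∈ SU σ m) : Gd σ (k * α * k⁻¹) := by
  obtain ⟨R, a, b, r, c, e, f, g, j, l⟩ := h
  refine ⟨cj[k] R, a.map _, ?_, k * r * k⁻¹, cj_commutator k R R ▸ conj_mem_cj k c, by rw [← conj_mul_conj, e]; simp,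
    mt conj_eq_one_iff.1 f, k * g * k⁻¹, (su_sem i).su j, by rw [← conj_mul_conj k α r, ← l]; group⟩
  rintro _ ⟨x, h, rfl⟩
  exact ⟨(su_sem i).su (b h).1, mem_c1.2 (by simp [← conj_mul_conj, mem_c1.1 (b h).2])⟩

namespace Dm
variable (d : Dm σ q m)
include d
theorem sem_uq (l : Sem σ θ ξ) (l' : Sem σ θ' ξ) : θ = θ' := RingEquiv.ext fun c =>
  smul_left_injective K (l.ne d.b0) ((l.smul c _).symm.trans (l'.smul c _))
theorem inv_th (l : Sem σ θ α) (e : α * α = 1) : θ = 1 ∨ θ = σ := d.aut (d.sem_uq (l.mul l) (e ▸ sem_one))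
theorem im1_ti (i : Sem σ 1 g) (e : g * g = 1) : Ti σ (im1 g) := fun x a y b => by
  obtain ⟨x, rfl⟩ := (mem_im1 i).1 a
  obtain ⟨y, rfl⟩ := (mem_im1 i).1 b
  rw [d.inv_sa i e, d.inv_D i e, vv, hf_zero_r]
theorem W_conj (l : Ti σ T) : ∃ r ∈ SU σ m, ∀ g ∈ WX σ T, r * g * r⁻¹ ∈ WW σ m := by
  obtain ⟨r, a, b⟩ := d.wittX l
  exact ⟨r, a, fun g => W_cj (su_sem a) fun x h => Vf_mono (d.ti_le l) ((b x).1 h)⟩
theorem m3 (i : Sem σ 1 g) (e : g * g = 1) : ∃ r ∈ SU σ m, r * g * r⁻¹ ∈ WW σ m :=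
  (d.W_conj (d.im1_ti i e)).imp fun _ h => ⟨h.1, h.2 _ (W_im1 i)⟩
theorem rk_cj (i : ξ ∈ Gam σ m) (l : Sem σ 1 g) : rk (ξ * g * ξ⁻¹) = rk g := by
  obtain ⟨θ, s⟩ := i
  refine (dim_eq (T := im1 g) ξ fun x => ?_).symm
  rw [mem_im1 l, mem_im1 (s.cj l)]
  exact ⟨fun ⟨y, e⟩ => ⟨ξ y, by simp [← e, s.add]⟩, fun ⟨y, e⟩ => ⟨ξ⁻¹ y, ξ.injective (by simpa [s.add] using e)⟩⟩
theorem W_dec (l : Ti σ T) (i : w ∈ WX σ T) : ∃ r, ∃ v : Fin r → Fin m → K, LinearIndependent K v ∧ (∀ i, v i ∈ T) ∧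
    ∀ x, w x = x + ∑ i, hf σ x (v i) • v i :=
  d.W_ind (p := fun T w => ∃ r, ∃ v : Fin r → Fin m → K, LinearIndependent K v ∧ (∀ i, v i ∈ T) ∧
    ∀ x, w x = x + ∑ i, hf σ x (v i) • v i) (fun _ => ⟨0, ![], linearIndependent_empty_type, by simp, by simp⟩)
    (fun T T' w u l a b c e ⟨r, v, h1, h2, h3⟩ => ⟨r + 1, Fin.cons u v, linearIndependent_finCons.2 ⟨h1, fun k =>
      c (Submodule.span_le.2 (Set.range_subset_iff.2 h2) k)⟩, Fin.cases b fun i => a.le (h2 i), fun x => by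
      simp [E_ap (ok_tv d.iv (l _ b _ b) (map_one σ)), e.1.add, e.1.smul1, W_fix (W_mono a.le e) (l _ b), h3 x, Fin.sum_univ_succ]
      abel⟩) l i
theorem rk_of {r : ℕ} {v : Fin r → Fin m → K} (h : LinearIndependent K v) (π : Perm (Fin r))
    (e : ∀ x, g x = x + ∑ i, hf σ x (v (π i)) • v i) : rk g = r := by
  suffices im1 g = Submodule.span K (Set.range v) by rw [← Fintype.card_fin r, ← finrank_span_eq_card h, ← this]; rfl
  refine le_antisymm (Submodule.span_le.2 ?_) (Submodule.span_le.2 ?_) <;> rintro _ ⟨x, rfl⟩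
  · simp only [e, add_sub_cancel_left]
    exact Submodule.sum_mem _ fun i _ => Submodule.smul_mem _ _ (Submodule.subset_span ⟨i, rfl⟩)
  · obtain ⟨n, k⟩ := d.dual h (Pi.single (π x) 1)
    exact Submodule.subset_span ⟨n, by simp [e, ← d.sy (v _) n, k, Pi.single_apply, apply_ite σ]⟩
theorem rc (i : w ∈ WW σ m) (i' : w' ∈ WW σ m) (e : rk w = rk w') : ∃ g ∈ PP σ m, g * w * g⁻¹ = w' := by
  have t := Vf_ti (σ := σ) (m := m) le_rfl
  obtain ⟨r, v, h1, h2, h3⟩ := d.W_dec t i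
  obtain ⟨r', v', k1, k2, k3⟩ := d.W_dec t i'
  obtain rfl : r = r' := by rw [← d.rk_of h1 1 h3, e, d.rk_of k1 1 k3]
  suffices ∃ g ∈ PP σ m, ∀ i, ∃ c : K, c * σ c = 1 ∧ g (v i) = c • v' i by
    obtain ⟨g, a, b⟩ := this
    have s := su_sem a.1
    refine ⟨g, a, Equiv.ext fun x => ?_⟩
    obtain ⟨x, rfl⟩ := g.surjective x
    simp only [Perm.mul_apply, Perm.coe_inv, symm_apply_apply, h3, k3 (g x), s.add, s.sum, s.smul1, add_right_inj]
    refine Finset.sum_congr rfl fun i _ => ?_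
    obtain ⟨c, h, f⟩ := b i
    rw [← s.form1, f, hf_smul_r, smul_smul, mul_right_comm, mul_comm _ c, h, one_mul]
  cases r with
  | zero => exact ⟨1, one_mem _, by simp⟩
  | succ r =>
    obtain ⟨g, s, e, f⟩ := d.wittP0 t (u := fun i => ⟨v i, h2 i⟩) (v := fun i => ⟨v' i, k2 i⟩)
      (.of_comp (Submodule.subtype _) h1) (.of_comp (Submodule.subtype _) k1)
    obtain ⟨k, c, j1, j2, j3, j4, j5⟩ := d.fixP t s (k2 0) (linearIndependent_fin_succ.1 k1).2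
      (Submodule.span_le.2 (Set.range_subset_iff.2 fun i => k2 _))
    exact ⟨k * g, d.mem_PP.2 ⟨j2, fun x i => j3 _ (e x i)⟩, Fin.cases ⟨c, j1, (congrArg k (f 0)).trans j5⟩ fun i =>
      ⟨1, by simp, (congrArg k (f _)).trans ((j4 _ (Submodule.subset_span ⟨i, rfl⟩)).trans (one_smul ..).symm)⟩⟩
theorem rk_conj (i : Sem σ 1 g) (e : g * g = 1) (i' : Sem σ 1 p) (e' : p * p = 1) (h : rk g = rk p) : ∃ k ∈ SU σ m, k * g * k⁻¹ = p := by
  obtain ⟨r, a, b⟩ := d.m3 i e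
  obtain ⟨r', a', b'⟩ := d.m3 i' e'
  obtain ⟨k, c, f⟩ := d.rc b b' (by rw [d.rk_cj (GU_le (SU_le a)) i, d.rk_cj (GU_le (SU_le a')) i', h])
  exact ⟨r'⁻¹ * k * r, mul_mem (mul_mem (inv_mem a') c.1) a, by
    rw [show p = r'⁻¹ * (r' * p * r'⁻¹) * r' by group, ← f]; group⟩
theorem dim_pp (T : Submodule K (Fin m → K)) (n : Fin m → K) : finrank K T ≤ finrank K ↥(T ⊓ pp σ (Submodule.span K {n})) + 1 := by
  have h1 := Submodule.finrank_sup_add_finrank_inf_eq T (pp σ (Submodule.span K {n}))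
  have h2 := (T ⊔ pp σ (Submodule.span K {n})).finrank_le
  have := d.pp_dim (Submodule.span K {n}); have := one_dim n
  rw [finrank_V] at h2; omega
theorem W_one (l : Ti σ T) {v : Fin 1 → Fin m → K} (h : ∀ i, v i ∈ T) (e : ∀ x, w x = x + ∑ i, hf σ x (v i) • v i) :
    w = E σ (v 0) 0 1 := Equiv.ext fun x => by simp [e, E_ap (ok_tv d.iv (l _ (h 0) _ (h 0)) (map_one σ))]
theorem j2m (i : w ∈ WW σ m) (w1 : w ≠ 1) : (∃ v, hf σ v v = 0 ∧ v ≠ 0 ∧ w = E σ v 0 1) ∨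
    ∃ g ∈ SU σ m, g * w * g⁻¹ ∈ UT σ m ∧ g * w * g⁻¹ ∉ 𝐂₁(w) := by
  have t := Vf_ti (σ := σ) (m := m) le_rfl
  have nz : ∀ v, w = E σ v 0 1 → v ≠ 0 := fun v e z => w1 (by rw [e, z, E_zero_v])
  obtain ⟨_ | _ | r, v, h1, h2, h3⟩ := d.W_dec t i
  · exact absurd (Equiv.ext (by simpa using h3)) w1
  · exact .inl ⟨_, t _ (h2 0) _ (h2 0), nz _ (d.W_one t h2 h3), d.W_one t h2 h3⟩
  by_cases z : w ∈ 𝐂(Q σ (bv 0 : Fin m → K))
  · obtain ⟨c, k, a, -, b⟩ := d.cQ0 d.b00 d.b0 ⟨_, i.1⟩ z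
    obtain ⟨a, h, e⟩ := (mem_Z d.iv d.b00).1 a
    obtain ⟨c, f⟩ := d.tv_one d.b00 h
    have := (d.sc_W (d.U_le (d.W_le i)).2 (e ▸ E_self ..) d.b0 b).trans (e.trans f)
    exact .inl ⟨_, by simp [d.b00], nz _ this, this⟩
  obtain ⟨n, nn, n0, k⟩ : ∃ n, hf σ n n = 0 ∧ hf σ n (bv 0) = 0 ∧ E σ (bv 0) n 0 ∉ 𝐂₁(w) := by
    by_contra! k
    exact z (mem_centralizer_iff'.2 fun g j => mem_c1.1 (d.Q_le_of d.b00 (fun a _ => mem_c1.2 (mem_centralizer_iff'.1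
      (d.W_ab t i) _ (E_W d.b0V (zero_mem _) _))) k j))
  have o := ok_iso d.iv d.b00 nn n0
  have nV : n ∉ Vf K m (m / 2) := fun j => k (mem_c1.2 (mem_centralizer_iff'.1 (d.W_ab t i) _ (E_W d.b0V j _)))
  obtain ⟨U, hU, e⟩ := exists_le_finrank_eq (Vf K m (m / 2) ⊓ pp σ (Submodule.span K {n}) ⊓ pp σ (Submodule.span K {bv (m - 1)}))
    (k := r) (by
      have := d.dim_pp (Vf K m (m / 2)) n
      have := d.dim_pp (Vf K m (m / 2) ⊓ pp σ (Submodule.span K {n})) (bv (m - 1))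
      have := Submodule.finrank_mono (Submodule.span_le.2 (Set.range_subset_iff.2 h2))
      rw [finrank_span_eq_card h1, Fintype.card_fin] at this; omega)
  obtain ⟨y, y1, y2, y3⟩ := exists_li_mem U e
  obtain ⟨w', a, b⟩ := W_mk d.iv t y fun i => (hU (y2 i)).1.1
  have yn : ∀ i, hf σ (y i) n = 0 := fun i => mem_perp_singleton.1 (hU (y2 i)).1.2
  have y0 : ∀ i, hf σ (y i) (bv 0) = 0 := fun i => t _ (hU (y2 i)).1.1 _ d.b0V
  have li : LinearIndependent K (Fin.cons n (Fin.cons (bv 0) y : Fin (r + 1) → _) : Fin (r + 2) → _) :=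
    linearIndependent_finCons.2 ⟨linearIndependent_finCons.2 ⟨y1, fun j =>
      one_ne_zero (d.b0l.symm.trans (mem_perp_singleton.1 (hU (y3 ▸ j)).2))⟩, fun j => nV (Submodule.span_le.2
        (Set.range_subset_iff.2 (Fin.cases d.b0V fun i => (hU (y2 i)).1.1)) j)⟩
  have f : ∀ x, (E σ (bv 0) n 0 * w') x = x + ∑ i, hf σ x ((Fin.cons n (Fin.cons (bv 0) y : Fin (r + 1) → _) : Fin (r + 2) → _)
      (Equiv.swap 0 1 i)) • (Fin.cons n (Fin.cons (bv 0) y : Fin (r + 1) → _) : Fin (r + 2) → _) i := fun x => by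
    rw [Perm.mul_apply, b, (E_sem ..).add, (E_sem ..).sum, E_ap o, Fin.sum_univ_succ, Fin.sum_univ_succ]
    simp [(E_sem ..).smul1, E_fix (y0 _) (yn _), add_assoc, Equiv.swap_apply_of_ne_of_ne, Fin.succ_ne_zero, Fin.ext_iff]
  have c : w' * E σ (bv 0) n 0 = E σ (bv 0) n 0 * w' := conj_eq_iff.1 (by
    rw [E_cj1 a.1, W_fix a (t _ d.b0V), b n]; simp [d.sw (yn _)])
  obtain ⟨g, j, l⟩ := d.rk_conj i.1 (W_sq t i) ((E_sem (bv 0) n 0).mul1 a.1) (by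
    rw [mul_assoc, ← mul_assoc w', c, mul_assoc, W_sq t a, mul_one, E_sq o, nn, E_zero]) (by rw [d.rk_of h1 1 h3, d.rk_of li _ f])
  refine .inr ⟨g, j, l ▸ mul_mem (d.Q_le (E_Q _ _ _)) (d.W_le a), fun h => k ?_⟩
  exact (mul_mem_cancel_right (mem_c1.2 (mem_centralizer_iff'.1 (d.W_ab t i) _ a))).1 (l ▸ h)
theorem E_ne (r : LinearIndependent K ![u, v]) (uu : hf σ u u = 0) (vv : hf σ v v = 0) (e : hf σ u v = 0) : E σ u v 0 ≠ 1 := fun f =>
  one_ne_zero (d.w2inj (c := 1) r uu vv e (map_zero σ) (map_zero σ) (by simpa)).2.2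
theorem gd_of (l : Ti σ T) (hg : g ∈ SU σ m) (e2 : E2 g) (c : g * α = α * g) (n : ∀ x ∈ T, g x ∈ T) {b : Perm (Fin m → K)}
    (hb : b ∈ WX σ T) (cb : b * α = α * b) (r1 : ⁅g, b⁆ ≠ 1) (hk : k ∈ SU σ m) (f : k * α * k⁻¹ = α * ⁅g, b⁆) : Gd σ α := by
  have gn := (d.WX_norm l (GU_le (SU_le hg))).2 n
  refine ⟨zpowers g ⊔ (WX σ T ⊓ 𝐂₁(α)), (isPGroup_zpowers e2.choose_spec).to_sup_of_normal_right' ((d.W_two l).to_le inf_le_left)
    (zpowers_le.2 (inf_normalizer_le_normalizer_inf ⟨gn, mem_normalizer_fintype fun x h => mem_c1.2 ?_⟩)),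
    sup_le (zpowers_le.2 ⟨hg, mem_c1.2 c⟩) (inf_le_inf_right _ (d.W_SU l)), _, commutator_mem_commutator
      (mem_sup_left (mem_zpowers g)) (mem_sup_right ⟨hb, mem_c1.2 cb⟩),
      W_sq l (mul_mem ((mem_normalizer_iff.1 gn b).1 hb) (inv_mem hb)), r1, k, hk, f⟩
  exact mem_c1.1 (mul_mem (mul_mem (mem_c1.2 c) h) (inv_mem (mem_c1.2 c)))
theorem gd_tv (hv : hf σ v v = 0) (v0 : v ≠ 0) : Gd σ (E σ v 0 1) := by
  obtain ⟨k, a, rfl⟩ := d.witt1 d.b00 d.b0 hv v0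
  rw [← tv_cj1 (su_sem a)]
  refine Gd.cj ?_ a
  have b1 : (bv 1 : Fin m → K) ∈ Vf K m (m / 2) := bv_mem (by have := d.l3; omega)
  have t := Vf_ti (σ := σ) (m := m) le_rfl
  have n1 : (bv 1 : Fin m → K) ≠ 0 := bv_ne (by have := d.hm; omega)
  obtain ⟨g, i, p, j, -, e⟩ := d.cz (map_one σ)
  obtain ⟨k, a, b⟩ := d.witt1 d.b00 d.b0 (t _ b1 _ b1) n1
  refine ⟨UT σ m, UT_two, le_inf d.U_SU fun u i => mem_c1.2 (mem_centralizer_iff'.1 (d.Z_cent d.b00 (d.U_le i)) _ (tv_Z _ _)).symm,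
    _, mul_mem (e ▸ commutator_mem_commutator (d.Q_le i) (d.Q_le j)) d.zd1,
    W_sq t (mul_mem (E_W d.b0V (zero_mem _) _) (E_W b1 (zero_mem _) _)), fun z => ?_, k, a, by
      rw [tv_cj1 (su_sem a), b, ← mul_assoc, tv_sq, one_mul]⟩
  obtain ⟨c, s, -⟩ := d.tv_inj d.b00 (t _ b1 _ b1) (map_one σ) (map_one σ) one_ne_zero d.b0
    ((mul_eq_one_iff_eq_inv.1 z).trans (inv_eq_of_mul_eq_one_left (tv_sq _ _)))
  simpa [bv] using congrFun s ⟨1, by have := d.hm; omega⟩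
theorem gd_W (i : w ∈ WW σ m) (h : hf σ (w x + x) x = 0) (e0 : w x + x ≠ 0) : Gd σ w := by
  have t := Vf_ti (σ := σ) (m := m) le_rfl
  obtain ⟨e, he⟩ : ∃ e, e = w x + x := ⟨_, rfl⟩
  have wx : w x = x + e := by rw [he, add_comm (w x), ← add_assoc, vv, zero_add]
  have eV : e ∈ Vf K m (m / 2) := he ▸ W_add i x
  rw [← he] at h e0
  obtain ⟨ω, f⟩ := d.om
  obtain ⟨ζ, o⟩ := d.ok (t _ eV _ eV) (n := ω • x) (by simp [d.sw h])
  refine ⟨UT σ m ⊓ 𝐂(WW σ m), UT_two.to_inf_left, inf_le_inf d.U_SU fun g j => mem_c1.2 (mem_centralizer_iff'.1 j _ i).symm, _,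
    d.W_der (E_W eV (zero_mem _) 1), tv_sq _ _, d.tv_ne o.vv e0 (map_one σ) one_ne_zero, _, d.E_SU e (ω • x) ζ, ?_⟩
  have o2 := o.inv.shift ω
  rw [mem_centralizer_iff'.1 (d.W_ab t (E_W eV (zero_mem _) 1)) _ i, mul_assoc, ← inv_mul_cancel_right (w * _) w, ← mul_assoc,
    mul_left_inj, E_inv o, E_cj1 i.1, W_fix i (t _ eV), i.1.smul1, wx, smul_add,
    show σ ζ = σ ζ + 1 + ω + σ ω by grind, E_shift ⟨o.iv, o.vv, o.nv, by have := o.inv.tr; simp at this ⊢; grind⟩,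
    E_mul o ⟨o.iv, o.vv, o.nv, by have := o.inv.tr; simp at this ⊢; grind⟩, vv, ← o.tr]
  congr 1; grind
theorem fix_out (i : Sem σ σ α) (e : α * α = 1) (hT : ∀ x ∈ T, α x ∈ T) (h : finrank K T' < finrank K T) :
    ∃ x ∈ T, x ∉ T' ∧ α x = x := by
  obtain ⟨x, a, b⟩ := exists_out h
  obtain ⟨ω, o⟩ := d.om
  by_contra! z
  have k : ∀ x ∈ T, α x + x ∈ T' := fun x a => by_contra fun n => z _ (add_mem (hT x a) a) n (d.inv_D i e x)
  have := add_mem (T'.smul_mem (σ ω) (k x a)) (k _ (T.smul_mem ω a))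
  rw [i.smul, smul_add, add_add_add_comm, vv, zero_add, ← add_smul, add_comm, o, one_smul] at this
  exact b this
theorem fix_sym (i : Sem σ σ α) (a : α x = x) (b : α y = y) : σ (hf σ x y) = hf σ x y := by rw [← i.form, a, b]
theorem fix_iso (i : Sem σ σ α) (e : α * α = 1) (hT : ∀ x ∈ T, α x ∈ T) (h : finrank K T' + 1 < finrank K T) :
    ∃ x ∈ T, x ∉ T' ∧ α x = x ∧ hf σ x x = 0 := by
  obtain ⟨x, a, b, c⟩ := d.fix_out (T' := T') i e hT (by omega)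
  obtain ⟨y, a', b', c'⟩ := d.fix_out (T' := T' ⊔ Submodule.span K {x}) i e hT (by
    have := Submodule.finrank_add_le_finrank_add_finrank T' (Submodule.span K {x}); have := one_dim x; omega)
  by_cases z : hf σ x x = 0
  · exact ⟨x, a, b, c, z⟩
  obtain ⟨s, k⟩ := exists_rt (hf σ y y / hf σ x x)
  have hs := d.fix_rt (c := s) (by rw [k, map_div₀, d.sy, d.sy])
  refine ⟨y + s • x, add_mem a' (T.smul_mem _ a), fun j => b' ?_, by rw [i.add, i.smul, hs, c, c'], ?_⟩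
  · simpa using sub_mem (Submodule.mem_sup_left j) (Submodule.mem_sup_right (Submodule.smul_mem _ s (Submodule.mem_span_singleton_self x)))
  · have := (d.sy x y).symm.trans (d.fix_sym i c c')
    rw [eq_div_iff z] at k
    simp [hs]; grind
theorem pp_inv (i : Sem σ θ α) (e : α * α = 1) {s : Set (Fin m → K)} (h : ∀ x ∈ s, α x = x) (x) (a : x ∈ pp σ (Submodule.span K s)) :
    α x ∈ pp σ (Submodule.span K s) := mem_pp_span.2 fun y b => by rw [← h y b, i.form, mem_pp_span.1 a y b, map_zero]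
theorem fix_hyp0 (i : Sem σ σ α) (e : α * α = 1) : ∃ u n, α u = u ∧ α n = n ∧ hf σ u u = 0 ∧ hf σ n n = 0 ∧ hf σ u n = 1 := by
  let H := Submodule.span K {x | α x = x ∧ hf σ x x = 0}
  have hm := d.hm
  have h1 : m ≤ finrank K H + 1 := by
    by_contra n
    obtain ⟨x, -, a, b⟩ := d.fix_iso (T := ⊤) (T' := H) i e (by simp) (by simpa using n)
    exact a (Submodule.subset_span b)
  obtain ⟨u, -, a, b, c⟩ := d.fix_iso (T := ⊤) (T' := pp σ H) i e (by simp) (by have := d.pp_dim H; simp; omega)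
  obtain ⟨n, ⟨f, k⟩, l⟩ : ∃ n ∈ {x | α x = x ∧ hf σ x x = 0}, hf σ u n ≠ 0 := by
    by_contra! z; exact a (mem_pp_span.2 z)
  have := d.fix_sym i b f
  exact ⟨u, (hf σ u n)⁻¹ • n, b, by rw [i.smul, map_inv₀, this, f], c, by simp [k], by simp [this, l]⟩
theorem gd_gr (i : Sem σ σ α) (e : α * α = 1) : Gd σ α := by
  have hm := d.hm
  obtain ⟨u, n, h1, h2, h3, h4, h5⟩ := d.fix_hyp0 i e
  have j := d.pp_inv i e (s := {u, n}) (by simp [*])
  have := d.pp_dim (Submodule.span K {u, n}); have := pair_dim u n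
  obtain ⟨x, a, x0, b, c⟩ := d.fix_iso (T' := ⊥) i e j (by simp; omega)
  obtain ⟨a1, a2⟩ : hf σ x u = 0 ∧ hf σ x n = 0 := mem_perp_pair.1 a
  have ip : Ip σ x u := (d.ip_of h3 (fun z => by simp [z] at h5) c a1 fun k => by
    obtain ⟨s, rfl⟩ := Submodule.mem_span_singleton.1 k; simp [h5] at a2; simp [a2] at x0).symm
  have := d.pp_dim (Submodule.span K {x, u}); have := pair_dim x u
  obtain ⟨y, a', y0, b'⟩ := d.fix_out (T' := Submodule.span K {x, u}) i e (d.pp_inv i e (s := {x, u}) (by simp [*])) (by omega)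
  obtain ⟨a3, a4⟩ : hf σ y x = 0 ∧ hf σ y u = 0 := mem_perp_pair.1 a'
  have yy : hf σ y y ≠ 0 := fun z => y0 (d.ip_max ip z a3 a4)
  obtain ⟨s, k⟩ := exists_rt (hf σ y y)⁻¹
  have hs := d.fix_rt (c := s) (by rw [k, map_inv₀, d.sy])
  have := d.sw a1; have := d.sw a3; have := d.sw a4
  have o := ok_iso d.iv c h4 (d.sw a2)
  have o' : Ok σ x u 1 := ⟨d.iv, c, ip.vu, by simp [h3, CharTwo.add_self_eq_zero]⟩
  have r : ⁅E σ x n 0, E σ u 0 1⁆ = E σ x u 1 := by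
    have := tv_pol d.iv c h3 a1 (map_one σ)
    rw [one_smul, mul_assoc, ← mem_centralizer_iff'.1 (d.W_ab ip.ti (E_W (mem_l x u) (zero_mem _) 1)) _ (E_W (mem_r x u) (zero_mem _) 1)]
      at this
    rw [commutatorElement_def, tv_cj1 (E_sem ..), E_ap o, E_inv (ok_tv d.iv h3 (map_one σ)), (E_split o' h3).2, ← this]
    simp [h5, ip.vu, add_comm u, mul_assoc, tv_sq]
  obtain ⟨ω, f⟩ := d.om
  obtain ⟨ζ, o1⟩ := d.ok c (n := s • y + ω • u) (by simp [*])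
  refine d.gd_of ip.ti (d.E_SU x n 0) (e2_inv (by rw [E_sq o, h4, E_zero])) (conj_eq_iff.1 (by rw [E_cj i, b, h2, map_zero])).symm
    (fun z k => ?_) (E_W (mem_r x u) (zero_mem _) 1) (conj_eq_iff.1 (by rw [tv_cj i]; simp [*])).symm
    (r ▸ fun z => ?_) (d.E_SU x (s • y + ω • u) ζ) ?_
  · rw [E_ap o, show hf σ z x = 0 from ip.ti _ k _ (mem_l x u), zero_smul, add_zero]; exact add_mem k (Submodule.smul_mem _ _ (mem_l x u))
  · obtain ⟨a, k, -⟩ := d.E_inj o' (ok_tv d.iv c (map_zero σ)) x0 (z.trans (E_zero ..).symm)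
    simpa [h5, a2] using congrArg (hf σ · n) k
  · have c1 : α * E σ x u 1 = E σ x u 1 * α := conj_eq_iff.1 (by rw [E_cj i]; simp [*])
    have o2 : Ok σ (α x) _ _ := o1.inv.cj i
    rw [b] at o2
    rw [r, c1, mul_assoc, ← inv_mul_cancel_right (α * _) α, ← mul_assoc, mul_left_inj, E_inv o1, E_cj i, b, E_mul o1 o2]
    simp [i.add, i.smul, d.iv ζ, *]
    congr 1
    · rw [add_add_add_comm, vv, zero_add, ← add_smul, f, one_smul]
    · field_simp at k; grind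
theorem good (i : α ∈ Gam σ m) (e : α * α = 1) (α1 : α ≠ 1) : ∃ R : Subgroup (Perm (Fin m → K)), IsPGroup 2 R ∧
    R ≤ SU σ m ⊓ 𝐂₁(α) ∧ ∃ r ∈ ⁅R, R⁆, r * r = 1 ∧ r ≠ 1 ∧ ∃ g ∈ SU σ m, g * α * g⁻¹ = α * r := by
  obtain ⟨θ, s⟩ := i
  obtain rfl | rfl := d.inv_th s e
  swap
  · exact d.gd_gr s e
  obtain ⟨k, a, i⟩ := d.m3 s e
  suffices Gd σ (k * α * k⁻¹) by
    have h : Gd σ α := by simpa [mul_assoc] using this.cj (inv_mem a)
    exact h
  have t := Vf_ti (σ := σ) (m := m) le_rfl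
  obtain ⟨_ | _ | r, v, h1, h2, h3⟩ := d.W_dec t i
  · exact absurd (conj_eq_one_iff.1 (Equiv.ext (by simpa using h3))) α1
  · exact d.W_one t h2 h3 ▸ d.gd_tv (t _ (h2 0) _ (h2 0)) (h1.ne_zero 0)
  obtain ⟨n, f⟩ := d.dual h1 (Fin.cons 1 (Fin.cons 1 0))
  have : (k * α * k⁻¹) n + n = v 0 + v 1 := by
    rw [h3, add_right_comm, vv, zero_add, Fin.sum_univ_succ, Fin.sum_univ_succ]; simp [← d.sy (v _) n, f]
  exact d.gd_W i (x := n) (by rw [this]; simp [f, CharTwo.add_self_eq_zero]) fun z => one_ne_zero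
    (LinearIndependent.pair_iff.1 (li_sub h1 (i := 0) (j := 1) (by simp)) 1 1 (by simpa using this ▸ z)).1
end Dm

end CF.U5
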