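import Cfsg.Agent.U5.A
import Cfsg.Agent.Dbl.S0

/-! Standard unitary subgroups in characteristic two: the interfaces. -/

set_option autoImplicit false
set_option linter.unusedSectionVars false

namespace CF.U5

open Subgroup Equiv CF.Loc CF.LX
open scoped commutatorElement

variable {K : Type} [Field K] [CharP K 2] {m : ℕ}

/-- the field has `q ^ 2` elements, `σ` is the involution -/
structure Fd (σ : K ≃+* K) (q : ℕ) : Prop where
  card : Nat.card K = q ^ 2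
  pw : ∀ x, σ x = x ^ q
  two : ∃ n, 1 ≤ n ∧ q = 2 ^ n

/-- field and dimension -/
structure Dm (σ : K ≃+* K) (q m : ℕ) : Prop extends Fd σ q where
  hm : m = 5

/-- elements of `2`-power order -/
def E2 {G : Type*} [Group G] (g : G) : Prop := ∃ j, g ^ 2 ^ j = 1

/-- the rank of `g - 1` -/
noncomputable def rk (g : Perm (Fin m → K)) : ℕ := Module.finrank K (Submodule.span K (Set.range fun x => g x - x))

/-- linear isometries as linear maps -/
def lin {σ : K ≃+* K} {g : Perm (Fin m → K)} (h : Sem σ 1 g) : (Fin m → K) →ₗ[K] (Fin m → K) :=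
  ⟨⟨g, h.add⟩, h.smul1⟩

variable (σ : K ≃+* K)

open Classical in
/-- the determinant -/
noncomputable def dt (g : Perm (Fin m → K)) : K := if h : Sem σ 1 g then LinearMap.det (lin h) else 1

/-- the stabiliser of the maximal isotropic subspace of the flag -/
def PP (m : ℕ) : Subgroup (Perm (Fin m → K)) := SU σ m ⊓ 𝐍(WW σ m)

/-- short root elements at the first basis vector not centralising `WW` -/
def XP (m : ℕ) : Subgroup (Perm (Fin m → K)) :=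
  closure {g | ∃ n : Fin m → K, (∀ i : Fin m, i.val < m - m / 2 ∨ i.val = m - 1 → n i = 0) ∧ g = E σ (bv 0) n 0}

/-- `C / ⟨d⟩` does not embed in the semilinear group -/
def NE (m : ℕ) {P : Type*} [Group P] (C : Subgroup P) (d : P) : Prop :=
  ∀ f : C →* Perm (Fin m → K), (∀ c, f c ∈ Gam σ m) → (∀ c, f c = 1 → c = 1 ∨ (c : P) = d) → False

variable {σ} {G X : Type*} [Group G] [Group X]

/-- `h` acts as `ξ` -/
def Ind (ρ : SU σ m →* G) (h : G) (ξ : Perm (Fin m → K)) : Prop :=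
  ∀ g ∈ SU σ m, h * up ρ g * h⁻¹ = up ρ (ξ * g * ξ⁻¹)

/-- the kernel consists of scalars -/
def Ker (ρ : SU σ m →* G) : Prop := ∀ g ∈ SU σ m, up ρ g = 1 → Sc g

/-- transvections -/
noncomputable abbrev tv (ρ : SU σ m →* G) (v : Fin m → K) (a : K) : G := up ρ (E σ v 0 a)

/-- a standard subgroup with cyclic Sylow subgroups in the centraliser -/
structure Fr (ρ : SU σ m →* G) (t : G) : Prop where
  t2 : t * t = 1
  t1 : t ≠ 1
  ker : Ker ρ
  cm : t ∈ 𝐂(ρ.range)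
  ti : ∀ g, g * t * g⁻¹ ∈ 𝐂(ρ.range) → g ∈ 𝐍(ρ.range)
  cyc : ∀ P ≤ 𝐂(ρ.range), IsPGroup 2 P → IsCyclic P

/-- the almost simple overgroup -/
structure Top (ρ : SU σ m →* G) (F : Subgroup G) : Prop where
  nor : F.Normal
  sim : IsSimpleGroup F
  nab : ¬ IsMulCommutative F
  cen : 𝐂(F) = ⊥
  le : ρ.range ≤ F

/-- the clean situation -/
structure CS (ρ : SU σ m →* X) (t : X) : Prop where
  t2 : t * t = 1
  t1 : t ≠ 1
  ker : Ker ρ
  sc : ∀ g ∈ SU σ m, Sc g → up ρ g = 1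
  cm : t ∈ 𝐂(ρ.range)
  ct : 𝐂₁(t) ≤ 𝐍(ρ.range)
  cen : ∀ h ∈ 𝐂₁(t) ⊓ 𝐂(ρ.range), h = 1 ∨ h = t
  ex : ∃ x ∈ 𝐂(im ρ (Y σ (bv 0))), x * t * x⁻¹ = t * tv ρ (bv 0) 1

/-- the clean section of `G` -/
structure Cl (ρ : SU σ m →* G) (t : G) (N : Subgroup G) (π : N →* X) (ρ' : SU σ m →* X) (t' : X) : Prop where
  ct : 𝐂₁(t) ≤ N
  sur : Function.Surjective π
  odd : Odd (Nat.card π.ker)
  ker : ∀ n : N, π n = 1 → (n : G) ∈ 𝐂₁(t) ⊓ 𝐂(ρ.range)
  rr : ∀ g, up π (ρ g) = ρ' g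
  tt : up π t = t'
  cs : CS ρ' t'

/-- polarisation -/
def bb (y : (Fin m → K) → X) (u v : Fin m → K) : X := y (u + v) * y u * y v

/-- doubled transvections -/
structure Yd (ρ : SU σ m →* X) (t : X) (y : (Fin m → K) → X) : Prop extends CS ρ t where
  zero : y 0 = 1
  sq : ∀ v, hf σ v v = 0 → y v * y v = 1
  eqv : ∀ g ∈ SU σ m, ∀ v, hf σ v v = 0 → up ρ g * y v * (up ρ g)⁻¹ = y (g v)
  tw : ∀ v, hf σ v v = 0 → y v * t * (y v)⁻¹ = t * tv ρ v 1
  com : ∀ u v, hf σ u u = 0 → hf σ v v = 0 → hf σ u v = 0 → y u * y v = y v * y u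
  add : ∀ u v w, hf σ u u = 0 → hf σ v v = 0 → hf σ w w = 0 → hf σ u v = 0 → hf σ u w = 0 → hf σ v w = 0 →
    bb y u (v + w) = bb y u v * bb y u w
  adj : ∀ u v (a : K), hf σ u u = 0 → hf σ v v = 0 → hf σ u v = 0 → bb y (a • u) v = bb y u (σ a • v)
  nrm : ∀ v (a : K), hf σ v v = 0 → a * σ a = 1 → y (a • v) = y v

/-- the commutator formula -/
structure Yc (ρ : SU σ m →* X) (t : X) (y : (Fin m → K) → X) (k : K) : Prop extends Yd ρ t y where
  hk : σ k = k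
  cf : ∀ v u w (c : K), hf σ v v = 0 → hf σ u u = 0 → hf σ w w = 0 → hf σ u v = 0 → hf σ w v = 0 →
    c * c = hf σ u w + hf σ w u → ⁅bb y v u, bb y v w⁆ = y (c • v) * tv ρ v (k * (c * c))

/-- the doubled root group -/
def Zh (ρ : SU σ m →* X) (y : (Fin m → K) → X) (v : Fin m → K) : Subgroup X :=
  closure {x | (∃ a, x = tv ρ v a) ∨ ∃ c : K, x = y (c • v)}

/-- the doubled group `Q v` -/
def Qh (ρ : SU σ m →* X) (y : (Fin m → K) → X) (v : Fin m → K) : Subgroup X :=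
  im ρ (Q σ v) ⊔ Zh ρ y v ⊔ closure {x | ∃ w, hf σ w w = 0 ∧ hf σ w v = 0 ∧ x = bb y v w}

/-- action on the doubled transvections -/
def Ac (ρ : SU σ m →* X) (y : (Fin m → K) → X) (h : X) (ξ : Perm (Fin m → K)) (μ : K) : Prop :=
  ∀ v, hf σ v v = 0 → h * y v * h⁻¹ = y (ξ v) * tv ρ (ξ v) μ

variable {k : K}

/-- model element and group element -/
noncomputable def pr (k : K) (ρ : SU σ m →* X) (g : Perm (Fin m → K)) : Perm (Fin m → KK k) × X := (ext k 0 g, up ρ g)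

/-- model element and group element -/
noncomputable def py (hk : σ k = k) (y : (Fin m → K) → X) (v : Fin m → K) : Perm (Fin m → KK k) × X :=
  (E (sh σ hk) (mkv k v 0) 0 (om k), y v)

/-- the graph of the doubled group `Q v` -/
def JJ (hk : σ k = k) (ρ : SU σ m →* X) (y : (Fin m → K) → X) (v : Fin m → K) : Subgroup (Perm (Fin m → KK k) × X) :=
  closure {p | (∃ g ∈ Q σ v, p = pr k ρ g) ∨ (∃ c : K, p = py hk y (c • v)) ∨
    ∃ w, hf σ w w = 0 ∧ hf σ w v = 0 ∧ p = py hk y (v + w) * py hk y v * py hk y w}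

/-- the graphs are functional and normalised by the orthogonal doubled transvections -/
structure Jd (ρ : SU σ m →* X) (t : X) (y : (Fin m → K) → X) (k : K) : Prop extends Yc ρ t y k where
  k1 : ∀ v, hf σ v v = 0 → v ≠ 0 → ∀ p ∈ JJ hk ρ y v, p.1 = 1 → p.2 = 1
  k2 : ∀ v w, hf σ v v = 0 → v ≠ 0 → hf σ w w = 0 → hf σ w v = 0 → py hk y w ∈ 𝐍(JJ hk ρ y v)

/-- the doubled Sylow subgroup -/
structure Kp (hk : σ k = k) (ρ : SU σ m →* X) (y : (Fin m → K) → X) (κ : UT (sh σ hk) m →* X) : Prop where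
  inj : Function.Injective κ
  io : ∀ u ∈ UT σ m, up κ (ext k 0 u) = up ρ u
  ncl : κ.range ≤ normalClosure (ρ.range : Set X)
  ac : ∀ h θ ξ μ, Sem σ θ ξ → Fl ξ → Ind ρ h ξ → Ac ρ y h ξ μ → σ μ = μ → μ * μ + μ + k + θ k = 0 →
    ∀ u ∈ UT (sh σ hk) m, h * up κ u * h⁻¹ = up κ (ext k μ ξ * u * (ext k μ ξ)⁻¹)

/-- the field case: output -/
structure Fe (ρ : SU σ m →* X) (t : X) (R : Subgroup X) : Prop where
  two : IsPGroup 2 R
  nrm : 𝐂₁(t) ⊓ 𝐍(im ρ (UT σ m)) ≤ 𝐍(R)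
  cap : R ⊓ 𝐂₁(t) = im ρ (UT σ m)
  ncl : R ≤ normalClosure (ρ.range : Set X)
  e0 : ∀ u ∈ R, t * u * (t * u) = 1 → ∃ c ∈ R, c * t * c⁻¹ = t * u
  ex : ∀ h ∈ 𝐂₁(t) ⊓ 𝐍(im ρ (UT σ m)), ∀ u ∈ R, u * h * (u * h) = 1 → u * h ≠ 1 → t * (u * h) ∉ R →
    NE σ m (R ⊓ 𝐂₁(u * h)) (u * h)
  iso : Nonempty (R ≃* UP K m)

/-- the split case in the clean section -/
structure Spl (ρ : SU σ m →* X) (t : X) (L₁ : Subgroup X) : Prop where
  cm : L₁ ≤ 𝐂(cj[t] L₁)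
  perf : L₁ ≤ ⁅L₁, L₁⁆
  le : ρ.range ≤ L₁ ⊔ cj[t] L₁
  ncl : L₁ ≤ normalClosure (ρ.range : Set X)

/-- only one non-trivial `2`-element of `C(t)` centralises the standard subgroup -/
def R2 (ρ : SU σ m →* G) (t : G) : Prop := ∀ r ∈ 𝐂₁(t) ⊓ 𝐂(ρ.range), E2 r → r = 1 ∨ r = t

/-- the split case: output -/
structure Sp1 (ρ ρ₁ : SU σ m →* G) (t : G) : Prop where
  cm : ∀ g g', ρ₁ g * (t * ρ₁ g' * t) = t * ρ₁ g' * t * ρ₁ g
  pr : ∀ g, ρ g = ρ₁ g * (t * ρ₁ g * t)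

end CF.U5
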