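import Cfsg.Agent.U5.D2

/-! Elementary abelian groups of the form `1 + N` and their fixed points under a semilinear involution. -/

set_option autoImplicit false
set_option linter.unusedSectionVars false
set_option linter.unusedVariables false

namespace CF.U5.Ex

open Subgroup Equiv CF.Loc CF.LX CF.Dbl Module

theorem card_ker {M M' : Type*} [AddGroup M] [AddGroup M'] (f : M →+ M') (N : AddSubgroup M) :
    Nat.card N = Nat.card ↥(N ⊓ f.ker) * Nat.card (N.map f) := by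
  rw [← AddSubgroup.relIndex_ker, AddSubgroup.relIndex, ← (f.ker.addSubgroupOf N).card_mul_index,
    ← AddSubgroup.inf_addSubgroupOf_left, Nat.card_congr (AddSubgroup.addSubgroupOfEquivOfLe inf_le_left).toEquiv]

section ne
variable {P X : Type*} [Group P] [Finite P] [Group X] {C B : Subgroup P} {f : C →* X} {d g : P}

theorem im_el (e : El B) : El (im f B) := fun x i => by
  obtain ⟨g, a, b, rfl⟩ := mem_im.1 i
  rw [← up_mul b b, e g a, up_one]
theorem up_eq' (k : ∀ c, f c = 1 → c = 1 ∨ (c : P) = d) {g p : P} (a : g ∈ C) (b : p ∈ C) (e : up f g = up f p) :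
    g = p ∨ g⁻¹ * p = d := (k ⟨_, mul_mem (inv_mem a) b⟩ (by
      rw [← up_eq, up_mul (inv_mem a) b, up_inv a, e, inv_mul_cancel])).imp_left fun j => inv_mul_eq_one.1 (congrArg Subtype.val j)
theorem card_im (l : B ≤ C) : Nat.card B = Nat.card ↥(B.subgroupOf C ⊓ f.ker) * Nat.card (im f B) := by
  rw [im, ← relIndex_ker, relIndex, ← Nat.card_congr (subgroupOfEquivOfLe l).toEquiv,
    ← (f.ker.subgroupOf (B.subgroupOf C)).card_mul_index,
    ← inf_subgroupOf_left f.ker, Nat.card_congr (subgroupOfEquivOfLe inf_le_left).toEquiv]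
theorem card_im1 (k : ∀ c, f c = 1 → c = 1 ∨ (c : P) = d) (l : B ≤ C) (n : d ∉ B) : Nat.card (im f B) = Nat.card B := by
  rw [card_im (f := f) l, (eq_bot_iff_forall (B.subgroupOf C ⊓ f.ker)).2 fun c i =>
    (k c i.2).resolve_right fun e => n (e ▸ i.1), card_bot, one_mul]
theorem card_im2 (k : ∀ c, f c = 1 → c = 1 ∨ (c : P) = d) (l : B ≤ C) : Nat.card B ≤ 2 * Nat.card (im f B) := by
  rw [card_im (f := f) l]
  refine Nat.mul_le_mul_right _ ((Nat.card_le_card_of_injective (β := ({1, d} : Set P))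
    (fun c : ↥(B.subgroupOf C ⊓ f.ker) => ⟨c.1.1, (k _ c.2.2).imp (congrArg Subtype.val) id⟩)
    fun a b e => Subtype.ext (Subtype.ext (congrArg (fun z : ({1, d} : Set P) => z.1) e))).trans ?_)
  exact (Set.ncard_insert_le _ _).trans (by simp)
end ne

variable {A : Type} [CommRing A] [Finite A] [CharP A 2] {m i j : ℕ} {σ θ : A ≃+* A} {g δ : Perm (Fin m → A)} {x : Fin m → A}
  {D D' : End A (Fin m → A)} {N N' : AddSubgroup (End A (Fin m → A))} {c : A}

instance : Finite (End A (Fin m → A)) := Finite.of_injective _ DFunLike.coe_injective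
theorem ee (D : End A (Fin m → A)) : D + D = 0 := LinearMap.ext fun _ => vv _

variable (A m) in
/-- maps into `Vf i` that kill `Vf j` -/
def Mo (i j : ℕ) : Submodule A (End A (Fin m → A)) where
  carrier := {D | (∀ x, D x ∈ Vf A m i) ∧ ∀ x ∈ Vf A m j, D x = 0}
  add_mem' := fun a b => ⟨fun x => add_mem (a.1 x) (b.1 x), fun x h => by simp [a.2 x h, b.2 x h]⟩
  zero_mem' := ⟨fun _ => zero_mem _, fun _ _ => rfl⟩
  smul_mem' := fun c _ a => ⟨fun x => Submodule.smul_mem _ c (a.1 x), fun x h => by simp [a.2 x h]⟩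

theorem card_Mo (hi : i ≤ m) (hj : j ≤ m) : Nat.card (Mo A m i j) = Nat.card A ^ (i * (m - j)) := by
  let M : (Fin i × Fin (m - j) → A) → Matrix (Fin m) (Fin m) A := fun f a b =>
    if h : a.val < i ∧ j ≤ b.val then f (⟨a, h.1⟩, ⟨b - j, by omega⟩) else 0
  have k0 : ∀ f x a, Matrix.toLin' (M f) x a = ∑ b, M f a b * x b := fun _ _ _ => rfl
  have k : ∀ f, Matrix.toLin' (M f) ∈ Mo A m i j := fun f => ⟨fun x a h => (k0 ..).trans
    (Finset.sum_eq_zero fun b _ => by simp [M, h.not_gt]), fun x h => funext fun a => (k0 ..).trans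
      (Finset.sum_eq_zero fun b _ => by by_cases e : j ≤ b.val <;> simp [M, e, h b])⟩
  rw [← Nat.card_congr (Equiv.ofBijective (fun f => (⟨_, k f⟩ : Mo A m i j)) ⟨fun f f' e => funext fun p => ?_, fun D =>
    ⟨fun p => D.1 (bv (j + p.2)) ⟨p.1, by omega⟩, Subtype.ext (LinearMap.toMatrix'.injective ?_)⟩⟩)]
  · simp [Nat.card_fun]
  · simpa [M] using congrFun (congrFun (Matrix.toLin'.injective (Subtype.ext_iff.1 e)) ⟨p.1, by omega⟩) ⟨j + p.2, by omega⟩
  ext a b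
  have e : (Pi.single b 1 : Fin m → A) = bv b := by ext j; simp [bv, Pi.single_apply, Fin.val_inj]
  rw [LinearMap.toMatrix'_toLin', LinearMap.toMatrix'_apply, e]
  simp only [M]
  split_ifs with h
  · simp [h.2]
  · by_cases k : j ≤ b.val
    exacts [(D.2.1 _ a (by omega)).symm, by rw [D.2.2 _ (bv_mem (by omega))]; rfl]

/-- the group `1 + N` -/
def gp (N : AddSubgroup (End A (Fin m → A))) : Subgroup (Perm (Fin m → A)) where
  carrier := {g | ∃ D ∈ N, (∀ x, g x = x + D x) ∧ ∀ D' ∈ N, ∀ x, D' (D x) = 0}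
  mul_mem' := fun ⟨D, a, b, c⟩ ⟨D', a', b', c'⟩ => ⟨D + D', add_mem a a', fun x => by
    simp [b, b', c' D a, add_assoc, add_comm (D x)], fun E e x => by simp [c E e, c' E e]⟩
  one_mem' := ⟨0, zero_mem _, by simp, by simp⟩
  inv_mem' := fun {g} ⟨D, a, b, c⟩ => ⟨D, a, fun x => g.injective (by
    rw [b (x + D x)]; simp [c D a, add_assoc, vv]), c⟩

/-- all products vanish -/
def Sq (N : AddSubgroup (End A (Fin m → A))) : Prop := ∀ D ∈ N, ∀ D' ∈ N, ∀ x, D' (D x) = 0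

open _root_.Classical in
/-- the map `1 + D` -/
noncomputable def pe (D : End A (Fin m → A)) : Perm (Fin m → A) :=
  if h : ∀ x, D (D x) = 0 then Function.Involutive.toPerm (fun x => x + D x) fun x => by simp [h, add_assoc, vv] else 1

theorem pe_ap (h : ∀ x, D (D x) = 0) (x : Fin m → A) : pe D x = x + D x := by rw [pe, dif_pos h]; rfl
theorem Sq.ap (s : Sq N) (a : D ∈ N) (x : Fin m → A) : pe D x = x + D x := pe_ap (s D a D a) x
theorem Sq.mem (s : Sq N) (a : D ∈ N) : pe D ∈ gp N := ⟨D, a, s.ap a, s D a⟩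
theorem Sq.ex (s : Sq N) (a : g ∈ gp N) : ∃ D ∈ N, g = pe D :=
  have ⟨D, b, c, _⟩ := a; ⟨D, b, Equiv.ext fun x => (c x).trans (s.ap b x).symm⟩
theorem Sq.mul (s : Sq N) (a : D ∈ N) (b : D' ∈ N) : pe D * pe D' = pe (D + D') := Equiv.ext fun x => by
  simp [s.ap a, s.ap b, s.ap (add_mem a b), s D' b D a, add_assoc, add_comm (D x)]
theorem Sq.inj (s : Sq N) (s' : Sq N') (a : D ∈ N) (b : D' ∈ N') (e : pe D = pe D') : D = D' :=
  LinearMap.ext fun x => add_left_cancel ((s.ap a x).symm.trans (e ▸ s'.ap b x))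
theorem Sq.card (s : Sq N) : Nat.card (gp N) = Nat.card N := (Nat.card_congr (Equiv.ofBijective
  (fun D : N => (⟨pe D, s.mem D.2⟩ : gp N)) ⟨fun a b e => Subtype.ext (s.inj s a.2 b.2 (congrArg Subtype.val e)),
    fun g => have ⟨D, a, e⟩ := s.ex g.2; ⟨⟨D, a⟩, Subtype.ext e.symm⟩⟩)).symm
theorem Sq.mono (s : Sq N) (l : N' ≤ N) : Sq N' := fun D a D' b => s D (l a) D' (l b)
theorem gp_el : El (gp N) := fun g ⟨D, a, b, c⟩ => Equiv.ext fun x => by simp [b, c D a, add_assoc, vv]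
theorem sq_Mo (h : i ≤ j) (l : N ≤ (Mo A m i j).toAddSubgroup) : Sq N := fun _ a _ b _ => (l b).2 _ (Vf_mono h ((l a).1 _))
theorem gp_UP (h : i ≤ j) (l : N ≤ (Mo A m i j).toAddSubgroup) : gp N ≤ UP A m := fun g ⟨D, a, b, _⟩ =>
  mem_UP' (fun x y => by simp only [b, map_add]; abel) (fun c x => by simp [b]) fun k x e => by
    rw [b, add_sub_cancel_left]
    by_cases r : k + 1 ≤ j
    · rw [(l a).2 x (Vf_mono r e)]; exact zero_mem _
    · exact Vf_mono (by omega) ((l a).1 x)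

/-- a semilinear involution stabilising the flag -/
structure Iw (θ : A ≃+* A) (δ : Perm (Fin m → A)) : Prop where
  add : ∀ x y, δ (x + y) = δ x + δ y
  smul : ∀ c x, δ (c • x) = θ c • δ x
  fl : Fl δ
  sq : δ * δ = 1

namespace Iw
variable (h : Iw θ δ)
include h
theorem dd (x : Fin m → A) : δ (δ x) = x := DFunLike.congr_fun h.sq x
theorem zero : δ 0 = 0 := by simpa using h.add 0 0
/-- conjugation -/
def ph : End A (Fin m → A) →+ End A (Fin m → A) := AddMonoidHom.mk' (fun D =>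
  ⟨⟨fun x => δ (D (δ x)), fun x y => by simp [h.add]⟩, fun c x => by
    have := h.dd (c • δ (D (δ x)))
    rw [h.smul, h.smul, h.dd] at this
    simp only [h.smul, map_smul, RingHom.id_apply, ← this]⟩) fun D D' => LinearMap.ext fun x => h.add _ _
theorem ph_ap (x : Fin m → A) : h.ph D x = δ (D (δ x)) := rfl
theorem ph_ph : h.ph (h.ph D) = D := LinearMap.ext fun x => by simp [h.ph_ap, h.dd]
theorem ph_smul : h.ph (c • D) = θ c • h.ph D := LinearMap.ext fun x => h.smul _ _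
theorem ph_Mo (a : D ∈ Mo A m i j) : h.ph D ∈ Mo A m i j :=
  ⟨fun x => h.fl _ _ (a.1 _), fun x b => by rw [h.ph_ap, a.2 _ (h.fl _ _ b), h.zero]⟩
/-- the fixed points -/
def Fx : AddSubgroup (End A (Fin m → A)) := (h.ph + AddMonoidHom.id _).ker
theorem mem_Fx : D ∈ h.Fx ↔ h.ph D = D := add_eq_zero_iff_eq_neg.trans (by
  rw [AddMonoidHom.id_apply, neg_eq_of_add_eq_zero_right (ee D)])
theorem mem_Fx' : D ∈ h.Fx ↔ ∀ x, δ (D x) = D (δ x) := h.mem_Fx.trans ⟨fun e x => by nth_rw 1 [← e]; rw [h.ph_ap, h.dd],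
  fun e => LinearMap.ext fun x => by rw [h.ph_ap, e, h.dd]⟩
theorem tr_Fx (D : End A (Fin m → A)) : h.ph D + D ∈ h.Fx := h.mem_Fx.2 (by rw [map_add, h.ph_ph, add_comm])
theorem gp_c : gp (N ⊓ h.Fx) ≤ 𝐂₁(δ) := fun g ⟨D, a, b, _⟩ => mem_c1.2 (Equiv.ext fun x => by
  simp [b, h.add, h.mem_Fx'.1 a.2])
theorem map_le (n : ∀ D ∈ N, h.ph D ∈ N) : N.map (h.ph + AddMonoidHom.id _) ≤ N ⊓ h.Fx := by
  rintro _ ⟨D, a, rfl⟩
  exact ⟨add_mem (n D a) a, h.tr_Fx D⟩
theorem le_sq (n : ∀ D ∈ N, h.ph D ∈ N) : Nat.card N ≤ Nat.card ↥(N ⊓ h.Fx) ^ 2 := by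
  rw [card_ker (h.ph + AddMonoidHom.id _) N, pow_two]
  exact Nat.mul_le_mul_left _ (AddSubgroup.card_le_of_le (h.map_le n))
theorem lt_sq (n : ∀ D ∈ N, h.ph D ∈ N) (a : D ∈ N ⊓ h.Fx) (b : ∀ D' ∈ N, h.ph D' + D' ≠ D) :
    Nat.card N < Nat.card ↥(N ⊓ h.Fx) ^ 2 := by
  rw [card_ker (h.ph + AddMonoidHom.id _) N, pow_two]
  refine Nat.mul_lt_mul_of_pos_left (Set.ncard_lt_ncard (Set.ssubset_iff_of_subset (h.map_le n) |>.2 ⟨D, a, ?_⟩)) Nat.card_pos
  rintro ⟨D', e, f⟩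
  exact b D' e f
theorem span {N : Submodule A (End A (Fin m → A))} (n : ∀ D ∈ N, h.ph D ∈ N) (e : c + θ c = 1) (a : D ∈ N) :
    ∃ D₁ ∈ N.toAddSubgroup ⊓ h.Fx, ∃ D₂ ∈ N.toAddSubgroup ⊓ h.Fx, D = D₂ + θ c • D₁ :=
  ⟨_, ⟨add_mem (n D a) a, h.tr_Fx D⟩, _, ⟨add_mem (n _ (N.smul_mem c a)) (N.smul_mem c a), h.tr_Fx _⟩, by
    rw [h.ph_smul, smul_add, add_add_add_comm, ee, zero_add, ← add_smul, e, one_smul]⟩
theorem sq_le {N : Submodule A (End A (Fin m → A))} (e : c + θ c = 1) :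
    Nat.card ↥(N.toAddSubgroup ⊓ h.Fx) ^ 2 ≤ Nat.card N := by
  rw [pow_two, ← Nat.card_prod]
  have k : ∀ D₁ ∈ h.Fx, ∀ D₂ ∈ h.Fx, h.ph (D₁ + c • D₂) + (D₁ + c • D₂) = D₂ := fun _ a _ b => by
    rw [map_add, h.ph_smul, h.mem_Fx.1 a, h.mem_Fx.1 b, add_add_add_comm, ee, zero_add, ← add_smul, add_comm, e, one_smul]
  refine Nat.card_le_card_of_injective (fun p => ⟨p.1.1 + c • p.2.1, add_mem p.1.2.1 (N.smul_mem c p.2.2.1)⟩) fun p r f => ?_
  have f := Subtype.mk.inj f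
  have := (k _ p.1.2.2 _ p.2.2.2).symm.trans (f ▸ k _ r.1.2.2 _ r.2.2.2)
  exact Prod.ext (Subtype.ext (add_right_cancel (this ▸ f))) (Subtype.ext this)
end Iw

end CF.U5.Ex
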