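import Cfsg.Agent.U5.U1

/-! The doubled model: centralisers of outer involutions. -/

set_option autoImplicit false
set_option linter.unusedSectionVars false
set_option linter.unusedVariables false

namespace CF.U5

open Subgroup Equiv CF.Loc CF.LX CF.Dbl Module Ex

namespace Ex
variable {A : Type} [CommRing A] [Finite A] [CharP A 2] {m : ℕ} {σ : A ≃+* A} {δ : Perm (Fin m → A)}

/-- self-adjoint maps into the maximal isotropic subspace -/
def NW (σ : A ≃+* A) (m : ℕ) : AddSubgroup (End A (Fin m → A)) where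
  carrier := {D | D ∈ Mo A m (m / 2) (m / 2) ∧ ∀ x y, hf σ (D x) y = hf σ x (D y)}
  add_mem' := fun a b => ⟨add_mem a.1 b.1, fun x y => by simp [a.2, b.2]⟩
  zero_mem' := ⟨zero_mem _, by simp⟩
  neg_mem' := fun {D} a => by rwa [neg_eq_of_add_eq_zero_right (ee D)]

theorem NW_le : NW σ m ≤ (Mo A m (m / 2) (m / 2)).toAddSubgroup := fun _ a => a.1
theorem NW_UT {N : AddSubgroup (End A (Fin m → A))} (l : N ≤ NW σ m) : gp N ≤ UT σ m := fun g i =>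
  have u := gp_UP le_rfl (l.trans NW_le) i
  ⟨⟨u.1, u.2.1, fun x y => by
    obtain ⟨D, a, b, -⟩ := i
    simp [b, (l a).2, (l a).1.2 _ ((l a).1.1 y), add_assoc, CharTwo.add_self_eq_zero], fun _ => rfl⟩, u⟩
theorem NW_lt [Nontrivial A] (s : Iv σ) (hm : 2 ≤ m) (l : Sem σ σ δ) (h : Iw σ δ) :
    Nat.card (NW σ m) < Nat.card ↥(NW σ m ⊓ h.Fx) ^ 2 := by
  obtain ⟨c, e⟩ : ∃ c : A, δ (bv 0) = c • bv 0 := ⟨_, sub_eq_zero.1 (funext fun i =>
    Vf_succ' ⟨0, by omega⟩ (h.fl _ _ (bv_mem one_pos)) i i.1.zero_le)⟩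
  have c1 : σ c * c = 1 := by simpa [e, h.smul, smul_smul, bv] using congrFun (h.dd (bv 0)) ⟨0, by omega⟩
  have y1 : hf σ (bv (m - 1) : Fin m → A) (bv 0) = 1 := by
    simpa [bv, show m - (m - 1 + 1) = 0 by omega] using hf_bv (σ := σ) (bv (m - 1) : Fin m → A) ⟨m - 1, by omega⟩
  refine h.lt_sq (D := ⟨⟨fun x => hf σ x (bv 0) • bv 0, fun x y => by simp [add_smul]⟩, fun a x => by simp [mul_smul]⟩)
    (fun D a => ⟨h.ph_Mo a.1, fun x y => by
      rw [h.ph_ap, h.ph_ap, ← h.dd y, l.form, a.2, ← l.form, h.dd, h.dd]⟩)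
    ⟨⟨⟨fun x => Submodule.smul_mem _ _ (bv_mem (by omega)), fun x a => by simp [hf_Vf a (bv_mem one_pos) (by omega)]⟩,
      fun x y => by simp [hf_sym s, mul_comm]⟩, h.mem_Fx'.2 fun x => ?_⟩ fun D a f => ?_
  · simp [h.smul, ← l.form, e, smul_smul, mul_right_comm _ _ c, c1]
  have := congrArg (fun D : End A (Fin m → A) => c * hf σ (D (bv (m - 1))) (δ (bv (m - 1)))) f
  simp only [LinearMap.add_apply, h.ph_ap, hf_add_l, l.form, hf_sym s, a.2, CharTwo.add_self_eq_zero, LinearMap.coe_mk, AddHom.coe_mk,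
    y1, one_smul, mul_zero] at this
  rw [← hf_smul_l, ← e, l.form, hf_sym s, y1] at this
  exact zero_ne_one this
end Ex

variable {K : Type} [Field K] [Fintype K] [CharP K 2] {m q : ℕ} {σ : K ≃+* K} {a k : K}

namespace Dm
variable (d : Dm σ q m)
include d

theorem e1 (hk : σ k = k) {δ : Perm (Fin m → KK k)} (l : Sem (sh σ hk) (sh σ hk) δ) (f : Fl δ) (e : δ * δ = 1) :
    NE σ m (UT (sh σ hk) m ⊓ 𝐂₁(δ)) δ := fun φ hφ j => by
  have h : Iw _ δ := ⟨l.add, l.smul, f, e⟩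
  have hm := d.hm
  have h1 := NW_lt (iv_sh d.iv hk) (by omega) l h
  have h2 := d.j1 (A := im φ (gp (NW (sh σ hk) m ⊓ h.Fx))) (im_le.trans fun _ ⟨c, e⟩ => e ▸ hφ c) (im_el gp_el)
  rw [card_im1 j (le_inf (NW_UT inf_le_left) h.gp_c) fun i => ?_, (sq_Mo le_rfl (inf_le_left.trans NW_le)).card] at h2
  swap
  · obtain ⟨ω, o⟩ := d.om
    have := congrArg (·.re) (congrFun (δ.injective ((l.smul ⟨ω, 0⟩ (bv 0)).trans ((NW_UT inf_le_left i).1.smul1 _ _).symm)) ⟨0, by omega⟩)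
    simp only [Pi.smul_apply, sh_ap, bv, if_true, smul_eq_mul, mul_one] at this
    rw [← this, CharTwo.add_self_eq_zero] at o
    exact zero_ne_one o
  let D : WW σ m → End (KK k) (Fin m → KK k) := fun w => ln (d.ext_UT hk (d.W_le w.2)).2 + 1
  have hD : ∀ w x y, D w (mkv k x y) = mkv k (w.1 x + x) (w.1 y + y) := fun w x y => by simp [D, ln_ap, ext_ap, mkv_add]
  have mD : ∀ w, D w ∈ NW (sh σ hk) m := fun w => ⟨⟨fun z => ?_, fun z i => ?_⟩, fun z z' => ?_⟩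
  rotate_left
  · obtain ⟨x, y, rfl⟩ := exists_mkv z
    exact hD w x y ▸ mkv_Vf.2 ⟨W_add w.2 x, W_add w.2 y⟩
  · obtain ⟨x, y, rfl⟩ := exists_mkv z
    rw [mkv_Vf] at i
    rw [hD, W_fix w.2 (Vf_ti le_rfl x i.1), W_fix w.2 (Vf_ti le_rfl y i.2), vv, vv, mkv_zero]
  · obtain ⟨x, y, rfl⟩ := exists_mkv z
    obtain ⟨x', y', rfl⟩ := exists_mkv z'
    simp only [hD, hf_mkv, W_sa (Vf_ti le_rfl) w.2]
  have h3 := Nat.card_le_card_of_injective (fun p : WW σ m × WW σ m => (⟨D p.1 + om k • D p.2, add_mem (mD _)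
    ⟨Submodule.smul_mem _ _ (mD _).1, fun x y => by simp [(mD _).2, sh_om]⟩⟩ : NW (sh σ hk) m)) fun p r e => by
      have := fun x => LinearMap.congr_fun (Subtype.mk.inj e) (mkv k x 0)
      simp [hD, om, mkv_smul, mkv_add, mkv_inj, p.1.2.1.zero, p.2.2.1.zero, r.1.2.1.zero, r.2.2.1.zero] at this
      exact Prod.ext (Subtype.ext (Equiv.ext fun x => (this x).1)) (Subtype.ext (Equiv.ext fun x => (this x).2))
  rw [Nat.card_prod, d.card_W, ← pow_two] at h3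
  exact (h3.trans_lt h1).not_ge (Nat.pow_le_pow_left h2 2)

theorem e23h (hk : σ k = k) (e : a * a + a = k) (f : σ a = a + 1) {η : KK k ≃+* KK k} {δ : Perm (Fin m → KK k)}
    (hη : η = 1 ∨ ∀ b c, η ⟨b, c⟩ = ⟨σ b + σ c, σ c⟩) (l : Sem (sh σ hk) η δ) (f' : Fl δ) (e' : δ * δ = 1) (δ1 : δ ≠ 1) :
    NE σ m (UT (sh σ hk) m ⊓ 𝐂₁(δ)) δ := fun φ hφ j => by
  obtain ⟨π, hπ⟩ := ex_pi (m := m) (hk := hk) d.iv e f
  obtain ⟨θ, h, h1⟩ : ∃ θ : K ≃+* K, (∀ c, ev e (η c) = θ (ev e c)) ∧ (θ = 1 → η = 1) := hη.elim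
    (fun i => ⟨1, fun c => i ▸ rfl, fun _ => i⟩) fun i => ⟨σ, fun ⟨b, c⟩ => by simp [i, ev, f]; ring, fun n => absurd n d.ne⟩
  obtain ⟨g, r, ad, sm⟩ := ex_rel e l h
  have s : ∀ c, Rel a (π.symm c).1 c.1 := fun c => by simpa using hπ (π.symm c)
  let ι : ↥(UP K m ⊓ 𝐂₁(g)) →* ↥(UT (sh σ hk) m ⊓ 𝐂₁(δ)) := MonoidHom.mk' (fun c => ⟨π.symm ⟨c, c.2.1⟩, (π.symm _).2, mem_c1.2
    (conj_eq_iff.1 (congrArg Subtype.val (π.injective (a₁ := ⟨_, UT_cj' l f' (π.symm _).2⟩) (Subtype.ext ((hπ _).uq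
      ((r.mul (s _)).mul r.inv) |>.trans (conj_eq_iff.2 (mem_c1.1 c.2.2).symm) |>.trans ((s ⟨c, c.2.1⟩).uq (hπ _))))))).symm⟩)
    fun c c' => Subtype.ext (congrArg Subtype.val (π.symm.map_mul ⟨c, c.2.1⟩ ⟨c', c'.2.1⟩) :)
  have t : ∀ c, Rel a (ι c).1 c.1 := fun c => s ⟨c, c.2.1⟩
  refine d.e23 ad sm (r.fl f') ((r.mul r).uq (e' ▸ rel_one)) (fun i => δ1 ?_) (φ.comp ι) (fun c => hφ _) fun c i =>
    (j (ι c) i).imp (fun i => Subtype.ext ((t c).uq (by rw [i]; exact rel_one))) fun i => (t c).uq (by rwa [i])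
  subst i
  obtain rfl := h1 (RingEquiv.ext fun c => smul_left_injective K d.b0 (sm c (bv 0)).symm)
  exact r.ker e f l

end Dm
end CF.U5
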