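import Cfsg.Agent.U5.G1
import Cfsg.Agent.U5.H1

/-! The graphs of the doubled groups `Q v` are normalised by the orthogonal doubled transvections. -/

set_option autoImplicit false
set_option linter.unusedSectionVars false
set_option linter.unusedVariables false

namespace CF.U5

open Subgroup Equiv CF.Geom Module CF.Loc CF.LX CF.Dbl Sx Tx
open scoped commutatorElement IsMulCommutative

theorem k2g {G : Type*} [Group G] {t y τ β e : G} (y2 : y * y = 1) (t2 : t * t = 1) (τ2 : τ * τ = 1) (h1 : y * t * y⁻¹ = t * τ)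
    (h2 : t⁻¹ * (β * t * β⁻¹) = e) (h3 : τ * t = t * τ) : t * (y * β * y⁻¹ * t * (y * β * y⁻¹)⁻¹) =
      τ * e * τ⁻¹ * (y * ((y * (τ * e * τ⁻¹) * y⁻¹)⁻¹ * (τ * e * τ⁻¹ * (τ * β * τ⁻¹) * β⁻¹)) * y⁻¹) := by
  have h4 : t * y * t = y⁻¹ * τ := by
    rw [show t * y * t = y⁻¹ * (y * t * y⁻¹) * (y * y) * t by group, h1, y2, ← h3, mul_one, mul_assoc, mul_assoc, t2, mul_one]
  calc _ = t * y * t * (t⁻¹ * (β * t * β⁻¹)) * β * (t⁻¹ * (y * y)⁻¹ * (y * t * y⁻¹) * (y * y)) * β⁻¹ * y⁻¹ := by group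
    _ = τ * e * τ⁻¹ * (y * y) * (τ * e * τ⁻¹)⁻¹ * (y⁻¹ * τ * e * β * (τ * τ)⁻¹ * τ * β⁻¹ * y⁻¹) := by rw [h4, h2, h1, y2, τ2]; group
    _ = _ := by group
theorem conj_conj' {G : Type*} [Group G] {y : G} (y2 : y * y = 1) (x : G) : y * (y * x * y⁻¹) * y⁻¹ = x := by
  rw [show y * (y * x * y⁻¹) * y⁻¹ = y * y * x * (y * y)⁻¹ by group, y2]; group
theorem com_of_eq {G : Type*} [Group G] {a b c : G} (h : ⁅b, c⁆ = ⁅a, c⁆) : a⁻¹ * b * c = c * (a⁻¹ * b) := by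
  rw [show a⁻¹ * b * c = a⁻¹ * (⁅b, c⁆ * c * b) by group, h]; group

section ring
variable {A : Type} [CommRing A] [CharP A 2] {m : ℕ} {σ : A ≃+* A} {v n n' : Fin m → A} {g p ξ : Perm (Fin m → A)}

variable (σ) in
/-- the vector of an Eichler transformation -/
def Nm (v : Fin m → A) (g : Perm (Fin m → A)) (n : Fin m → A) : Prop := ∃ ζ, Ok σ v n ζ ∧ g = E σ v n ζ
theorem Nm.mul (a : Nm σ v g n) (b : Nm σ v p n') : Nm σ v (g * p) (n + n') :=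
  let ⟨_, o, e⟩ := a; let ⟨_, o', e'⟩ := b; ⟨_, o.mul o', by rw [e, e', E_mul o o']⟩
theorem Nm.inv (a : Nm σ v g n) : Nm σ v g⁻¹ n := let ⟨_, o, e⟩ := a; ⟨_, o.inv, by rw [e, E_inv o]⟩
theorem Nm.cj (l : Sem σ 1 ξ) (f : ξ v = v) (a : Nm σ v g n) : Nm σ v (ξ * g * ξ⁻¹) (ξ n) :=
  let ⟨ζ, o, e⟩ := a; ⟨ζ, by simpa [f] using o.cj l, by rw [e, E_cj1 l, f]⟩
end ring

variable {K : Type} [Field K] [Fintype K] [CharP K 2] {m q : ℕ} {σ θ : K ≃+* K} {a b a' b' r r' ζ ζ' ω k : K}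
  {g ξ : Perm (Fin m → K)} {u v w x n u' v' n' : Fin m → K} {T T' S : Submodule K (Fin m → K)}
  {X : Type*} [Group X] [Finite X] {ρ : SU σ m →* X} {t h z z' s : X} {y : (Fin m → K) → X} {hk : σ k = k}
  {p p' : Perm (Fin m → KK k) × X} {N : Fin m → KK k} {η η' : KK k}

theorem Qh_le (i : z ∈ Qh ρ y v) : ∃ p ∈ JJ hk ρ y v, p.2 = z := by
  refine (show Qh ρ y v ≤ (JJ hk ρ y v).map (.snd _ _) from sup_le (sup_le (fun x i => ?_) ((closure_le _).2 ?_)) ((closure_le _).2 ?_)) i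
  · obtain ⟨g, j, -, rfl⟩ := mem_im.1 i; exact ⟨_, pr_JJ j, rfl⟩
  · rintro _ (⟨a, rfl⟩ | ⟨a, rfl⟩); exacts [⟨_, pr_JJ (E_Q _ _ _), rfl⟩, ⟨_, py_JJ a, rfl⟩]
  · rintro _ ⟨w, a, b, rfl⟩; exact ⟨_, pb_JJ a b, rfl⟩
theorem nm_pr (o : Ok σ v n ζ) : Nm (sh σ hk) (mkv k v 0) (pr k ρ (E σ v n ζ)).1 (mkv k n 0) := ⟨_, (ext_E hk o).1, (ext_E hk o).2⟩

namespace Dm
variable (d : Dm σ q m) (hv : hf σ v v = 0)
include d hv
theorem nm_pb (hw : hf σ w w = 0) (e : hf σ w v = 0) : Nm (sh σ hk) (mkv k v 0) (pb hk y v w).1 (mkv k 0 w) :=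
  ⟨_, d.okb hv hw e, d.pb_fst hv hw e⟩
theorem pb_sm (c : Yd ρ t y) (hw : hf σ w w = 0) (e : hf σ w v = 0) (a : K) : pb hk y (a • v) w = pb hk y v (σ a • w) := by
  refine Prod.ext ?_ (c.adj v w a hv hw (d.sw e))
  have o := d.okb (hk := hk) (v := a • v) (by simp [hv]) hw (by simp [e])
  rw [d.pb_fst (by simp [hv]) hw (by simp [e]), d.pb_fst hv (by simp [hw]) (by simp [e])]
  rw [mk_smul] at o ⊢
  rw [E_smul o (iso_mk hk hv) (d.okb hv hw e).nv]; simp [sh_ap, mkv_smul]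
theorem py_pr (c : Yd ρ t y) (hw : hf σ w w = 0) (e : hf σ w v = 0) (i : g ∈ Q σ v) : py hk y w * pr k ρ g * (py hk y w)⁻¹ ∈ JJ hk ρ y v := by
  obtain ⟨n, ζ, o, rfl⟩ := (mem_Q d.iv hv).1 i
  have := py_cj (hk := hk) c (inv_mem (d.E_SU v n ζ)) hw
  rw [pr_inv (d.E_SU _ _ _), E_inv o, E_ap o.inv, e, zero_smul, add_zero, mul_zero, add_zero, add_comm] at this
  have j := mul_mem (mul_mem (pr_JJ (hk := hk) (ρ := ρ) (y := y) i) (pb_JJ (w := σ (hf σ w n) • w) (by simp [hw]) (by simp [e])))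
    (inv_mem (py_JJ (hf σ w n)))
  rw [← d.pb_sm hv c hw e, pb, ← this, mul_assoc (_ * _), (d.py_com c (by simp [hv]) hw (by simp [d.sw e])).eq] at j
  rw [inv_eq_of_mul_eq_one_left (py_sq c hw)]; simpa [mul_assoc] using j
theorem py_cZ (c : Yd ρ t y) (hw : hf σ w w = 0) (e : hf σ w v = 0) (i : p ∈ ZZ hk ρ y v) : py hk y w * p * (py hk y w)⁻¹ = p := by
  obtain ⟨a, b, ha, hb, rfl⟩ := (d.mem_ZZ hv c).1 i
  rw [d.zz_eq hv ha hb]
  exact conj_eq_iff.2 ((d.py_com c hw (by simp [hv]) (by simp [e])).mul_right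
    (Hx.pr_cm d.iv c (tv_SU _ _) hw (E_fix e (by simp) _)).symm).eq
variable (v0 : v ≠ 0) (c : Yc ρ t y k)
include v0 c
theorem jeq (i : p ∈ JJ hk ρ y v) (j : p' ∈ JJ hk ρ y v) (e : p.1 = p'.1) : p = p' :=
  Prod.ext e (inv_mul_eq_one.1 (d.k1 hv v0 c (mul_mem (inv_mem i) j) (by simp [e])))
theorem memZ (i : p ∈ JJ hk ρ y v) (e : Nm (sh σ hk) (mkv k v 0) p.1 (mkv k (a • v) (b • v))) : p ∈ ZZ hk ρ y v := by
  rw [show mkv k (a • v) (b • v) = (⟨a, b⟩ : KK k) • mkv k v 0 by simp [mkv_smul]] at e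
  obtain ⟨η', o, e⟩ := e
  obtain ⟨a, b, ha, hb, f⟩ := d.ex_zz (ρ := ρ) (y := y) hv (E_line o).1
  rw [d.jeq hv v0 c i (d.ZZ_le hv (zz_ZZ ha hb)) (e.trans ((E_line o).2.trans f.symm))]; exact zz_ZZ ha hb
theorem cenJ (i : p ∈ JJ hk ρ y v) (e : ∀ g ∈ Q σ v, p.2 * up ρ g = up ρ g * p.2) : p ∈ ZZ hk ρ y v := by
  obtain ⟨N, η, o, f⟩ := (mem_Q (iv_sh d.iv hk) (iso_mk hk hv)).1 (d.jj_le hv i).1
  obtain ⟨n, n', rfl⟩ := exists_mkv N
  have h1 : ∀ x, hf σ x v = 0 → hf σ n x + hf σ x n = 0 ∧ hf σ n' x + hf σ x n' = 0 := fun x hx => by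
    obtain ⟨ζ, o'⟩ := d.ok hv hx
    obtain ⟨a, b, ha, hb, r⟩ := (d.mem_ZZ hv c.toYd).1 (d.JJ_com hv v0 c i (pr_JJ (E_Q v x ζ)))
    obtain ⟨rfl, rfl⟩ := d.zinj c.toYd hv v0 ha hb (map_zero σ) (map_zero σ) ((congrArg Prod.snd r).symm.trans
      ((commutatorElement_eq_one_iff_mul_comm.2 (e _ (E_Q v x ζ))).trans (by simp [c.zero, tv0])))
    have : ⁅p.1, ext k 0 (E σ v x ζ)⁆ = 1 := congrArg Prod.fst (r.trans (zz0 c.toYd))
    rw [f, (ext_E hk o').2, E_comm o (ext_E hk o').1] at this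
    simpa [hf_mkv, QuadraticAlgebra.ext_iff] using d.tvK hv v0 (ok_tv o.iv o.vv (by simp [hf_sym o.iv, add_comm])) this
  have h2 : ∀ n, (∀ x, hf σ x v = 0 → hf σ n x + hf σ x n = 0) → ∃ c : K, n = c • v := fun n h => d.perp_perp1 fun x hx => by
    obtain ⟨ω, o⟩ := d.om
    have := h x hx; have := h (ω • x) (by simp [hx])
    simp only [hf_smul_l, hf_smul_r] at this; grind
  obtain ⟨a, rfl⟩ := h2 n fun x j => (h1 x j).1
  obtain ⟨b, rfl⟩ := h2 n' fun x j => (h1 x j).2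
  exact d.memZ hv v0 c i ⟨η, o, f⟩
theorem y_Qh (hw : hf σ w w = 0) (e : hf σ w v = 0) (hu : hf σ u u = 0) (f : hf σ u v = 0) : y w * bb y v u * (y w)⁻¹ ∈ Qh ρ y v := by
  have c' := c.toYd
  have hk := c.hk
  have yZ := d.y_cZ c' hv hw e
  have y2 : (y w)⁻¹ = y w := inv_eq_of_mul_eq_one_left (c.sq w hw)
  refine d.can c' hv v0 (mul_mem (mul_mem yZ (d.b_cZ c' hv hu f)) (inv_mem yZ)) (fun r i => ?_) ?_
  · obtain ⟨g, i', -, rfl⟩ := mem_im.1 i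
    have j := d.qZ c' hv v0 (b_Qh hu f) (d.jj_le hv (d.py_pr (hk := hk) hv c' hw e i')).2
    rw [← conj_eq_iff.2 (mem_centralizer_iff'.1 yZ _ j).symm, cj_comm] at j
    simpa [py, pr, y2, mul_assoc, ← mul_assoc (y w) (y w), c.sq w hw] using j
  have o := ok_tv d.iv hw (map_one σ)
  have h1 : E σ w 0 1 v = v := E_fix (d.sw e) (by simp) _
  have h2 : E σ w 0 1 u = u + hf σ u w • w := by simp [E_ap o]
  have h3 := d.beqv c' (tv_SU w 1) hv hu (d.sw f)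
  have h4 := up_cj (φ := ρ) (tv_SU w 1) (d.E_SU v u 0)
  rw [E_cj1 (E_sem _ _ _)] at h4
  rw [h1, h2] at h3 h4
  generalize hu' : u + hf σ u w • w = u' at *
  have a' : hf σ u' u' = 0 := by rw [← h2, (E_sem _ _ _).form1, hu]
  have b' : hf σ u' v = 0 := by rw [← h2, ← h1, (E_sem _ _ _).form1, f]
  have o' := ok_iso d.iv hv a' b'
  have j := d.memZ hv v0 c (a := 0) (b := 0) (mul_mem (inv_mem (d.py_pr (hk := hk) hv c' hw e (E_Q v u' 0)))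
    (mul_mem (mul_mem (pr_JJ (E_Q v u' 0)) (pb_JJ a' b')) (inv_mem (pb_JJ hu f)))) (by
      convert (Nm.cj (E_sem (mkv k w 0) 0 (om k)) (E_fix (iso_mk hk (d.sw e)) (hf_zero_r _) _) (nm_pr (ρ := ρ) o')).inv.mul
        (((nm_pr (ρ := ρ) o').mul (d.nm_pb (y := y) hv a' b')).mul (d.nm_pb (y := y) hv hu f).inv) using 1
      · rfl
      rw [E_ap (ok_tv (iv_sh d.iv hk) (iso_mk hk hw) (sh_om hk)), ← hu']
      simp [hf_mk0, hw, om, mkv_smul, mkv_add, mkv_inj, vv, add_comm, add_left_comm])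
  have j' := d.ZZ_snd hv j
  rw [← conj_eq_iff.2 (mem_centralizer_iff'.1 yZ _ j').symm] at j'
  rw [k2g (c.sq w hw) c.t2 (by rw [← up_mul (tv_SU _ _) (tv_SU _ _), tv_sq, up_one]) (c.tw w hw) (d.tb c' hv hu f) (tv_cm c.cm _), h3, ← h4]
  exact mul_mem (mem_sup_left (up_im (E_Q v u' 0) (d.E_SU _ _ _))) (mem_sup_right j')
theorem k2a (hw : hf σ w w = 0) (e : hf σ w v = 0) (hu : hf σ u u = 0) (f : hf σ u v = 0) (i : g ∈ Y σ v) :
    ∃ p ∈ JJ hk ρ y v, Commute (pr k ρ g) (p⁻¹ * (py hk y w * pb hk y v u * (py hk y w)⁻¹)) := by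
  have c' := c.toYd
  obtain ⟨η, o, h3⟩ : Nm (sh σ hk) (mkv k v 0) (py hk y w * pb hk y v u * (py hk y w)⁻¹).1 _ :=
    Nm.cj (E_sem (mkv k w 0) 0 (om k)) (E_fix (iso_mk hk (d.sw e)) (hf_zero_r _) _) (d.nm_pb (y := y) hv hu f)
  obtain ⟨p, j, h4⟩ := d.jj_sur (ρ := ρ) (y := y) hv o
  obtain ⟨p', j', h5⟩ := Qh_le (hk := hk) (mul_mem (inv_mem (d.jj_le hv j).2) (d.y_Qh hv v0 c hw e hu f))
  have h6 := d.ZZ_snd hv (d.cenJ hv v0 c j' fun r l => by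
    have k := d.JJ_com hv v0 c (pb_JJ hu f) (d.py_pr (hk := hk) hv c' hw e l)
    rw [← d.py_cZ hv c' hw e k, cj_comm, conj_conj' (py_sq c' hw)] at k
    have := congrArg Prod.snd (d.jeq hv v0 c (d.ZZ_le hv k) (d.ZZ_le hv (d.JJ_com hv v0 c j (pr_JJ l)))
      (congrArg (⁅·, (pr _ ρ r).1⁆) (h3.trans h4.symm)))
    change ⁅y w * bb y v u * (y w)⁻¹, up ρ r⁆ = ⁅p.2, up ρ r⁆ at this
    rw [h5]; exact com_of_eq this)
  rw [h5] at h6
  refine ⟨p, j, Prod.ext ?_ (mem_centralizer_iff'.1 (d.Z_cY c' hv (up_im i (mem_Y.1 i).1)) _ h6).symm⟩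
  rw [Prod.fst_mul, Prod.fst_mul _ (pr k ρ g), Prod.fst_mul p⁻¹, h3, Prod.fst_inv, h4, inv_mul_cancel, mul_one, one_mul]
theorem k2 (hw : hf σ w w = 0) (e : hf σ w v = 0) : py hk y w ∈ 𝐍(JJ hk ρ y v) := by
  have c' := c.toYd
  rcases d.ip_or hv v0 hw e with ⟨a, rfl⟩ | l
  · exact le_normalizer (py_JJ a)
  let H := JJ hk ρ y v ⊓ (JJ hk ρ y v).comap (MulAut.conj (py hk y w)).toMonoidHom
  have cm : ∀ {p}, p ∈ JJ hk ρ y v → Commute (py hk y w) p → p ∈ H := fun {p} i e =>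
    ⟨i, show _ * p * _ ∈ JJ hk ρ y v from (conj_eq_iff.2 e.eq).symm ▸ i⟩
  have h2 : ∀ a : K, py hk y (a • v) ∈ H := fun a => cm (py_JJ a) (d.py_com c' hw (by simp [hv]) (by simp [e]))
  suffices JJ hk ρ y v ≤ H from mem_normalizer_fintype fun p i => (this i).2
  obtain ⟨a, a1, a0⟩ := d.one
  have a2 : a ≠ 0 := fun z => by simp [z] at a1
  have a3 : σ a * σ a + 1 ≠ 0 := fun z => a0 (sq_inj (by grind))
  replace a0 : a + 1 ≠ 0 := fun e => a0 (CharTwo.add_eq_zero.1 e)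
  obtain ⟨x, w', v', F⟩ := d.fm_ip l
  obtain ⟨g, i, g1, g2, g3, g4, -⟩ := d.dia F (a := 1) (b := a) (c := σ a * σ a) one_ne_zero a2 (by simp; grind)
  rw [one_smul] at g1
  rw [inv_eq_of_mul_eq_one_left a1] at g4
  have s := su_sem i
  have h8 : Commute (pr k ρ g) (py hk y w) := conj_eq_iff.1 ((py_cj c' i hw).trans (g2 ▸ Prod.ext (by
    simp only [py, mk_smul, tv_smul (iv_sh d.iv hk) (iso_mk hk hw) (sh_om hk)]; congr 1; ext <;> simp [sh_ap, a1]) (c.nrm w a hw a1)))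
  have n := mem_normalizer_iff.1 (Hx.pr_nor (hk := hk) d c' hv v0 i g1)
  have P : ∀ u, hf σ u v = 0 → ∃ ζ, Ok (sh σ hk) (mkv k v 0) (mkv k 0 (g u + u)) ζ ∧
      E (sh σ hk) (mkv k v 0) (mkv k 0 (g u + u)) ζ ∈ H.map (MonoidHom.fst _ _) := fun u f => by
    refine d.span_iso1 (p := fun u => ∃ ζ, Ok (sh σ hk) (mkv k v 0) (mkv k 0 (g u + u)) ζ ∧
      E (sh σ hk) (mkv k v 0) (mkv k 0 (g u + u)) ζ ∈ H.map (MonoidHom.fst _ _)) (fun u u' a b => ?_) (fun u hu f => ?_) f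
    · rw [s.add, add_add_add_comm]; exact Hx.gad a b
    obtain ⟨p, j, h7⟩ := d.k2a (hk := hk) hv v0 c hw e hu f (mem_Y.2 ⟨i, g1⟩)
    have B := pb_JJ (hk := hk) (ρ := ρ) (y := y) hu f
    have h9 : pb hk y v u * (pr k ρ g * pb hk y v u * (pr k ρ g)⁻¹)⁻¹ ∈ H := mem_inf.2 ⟨mul_mem B (inv_mem ((n _).1 B)), by
      change _ * _ * _ ∈ JJ hk ρ y v
      convert mul_mem j (inv_mem ((n _).1 j)) using 1
      generalize py hk y w = P at h7 h8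
      generalize pb hk y v u = B at h7
      calc _ = P * B * P⁻¹ * (P * pr k ρ g * P⁻¹) * (P * B * P⁻¹)⁻¹ * (P * pr k ρ g * P⁻¹)⁻¹ := by group
        _ = p * (p⁻¹ * (P * B * P⁻¹) * pr k ρ g * (p⁻¹ * (P * B * P⁻¹))⁻¹) * p⁻¹ * (pr k ρ g)⁻¹ := by rw [conj_eq_iff.2 h8.symm.eq]; group
        _ = _ := by rw [conj_eq_iff.2 h7.symm.eq]; group⟩
    rw [d.pb_cj c' i hv hu (d.sw (d.sw f)), g1] at h9
    have a' : hf σ (g u) (g u) = 0 := by rw [s.form1, hu]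
    have b' : hf σ (g u) v = 0 := by rw [← g1, s.form1, f]
    obtain ⟨η', o', r⟩ := (d.nm_pb (hk := hk) (y := y) hv hu f).mul (d.nm_pb (y := y) hv a' b').inv
    rw [mkv_add, add_zero, add_comm u] at o' r
    exact ⟨η', o', _, h9, r⟩
  intro p j
  obtain ⟨N, η, o, r⟩ := (mem_Q (iv_sh d.iv hk) (iso_mk hk hv)).1 (d.jj_le hv j).1
  obtain ⟨p₁, j₁, r'⟩ := Hx.gen d (H := H) (u := 0) hv (fun n ζ o _ => ⟨pr_JJ (E_Q _ _ _), d.py_pr hv c' hw e (E_Q _ _ _)⟩) h2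
    (fun z _ b => by
      obtain ⟨b0, b1, b2, b3, rfl⟩ := d.fp1 F b
      have k1 := Hx.gad (Hx.gpb d (H := H) (w := b0 • v) hv (by simp [hv]) (by simp [hv]) (by
        simpa [add_smul] using mul_mem (mul_mem (h2 (1 + b0)) (h2 1)) (h2 b0)))
        (P ((b1 / (a + 1)) • w + (b2 / (σ a * σ a + 1)) • x + (b3 / (a + 1)) • w') (by simp [F.h]))
      rwa [show b0 • v + (g ((b1 / (a + 1)) • w + (b2 / (σ a * σ a + 1)) • x + (b3 / (a + 1)) • w') +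
          ((b1 / (a + 1)) • w + (b2 / (σ a * σ a + 1)) • x + (b3 / (a + 1)) • w')) = b0 • v + b1 • w + b2 • x + b3 • w' by
        simp only [s.add, s.smul1, g2, g3, g4]
        generalize σ a * σ a = e at a3
        match_scalars <;> field_simp] at k1) o (by simp [mkv_zero])
  rwa [d.jeq hv v0 c j j₁.1 (r.trans r'.symm)]
end Dm

theorem Dm.jd (d : Dm σ q m) (c : Yc ρ t y k) : Jd ρ t y k :=
  ⟨c, fun _ hv v0 _ i e => d.k1 hv v0 c i e, fun _ _ hv v0 hw e => d.k2 hv v0 c hw e⟩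

end CF.U5
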