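import Cfsg.Agent.U5.S2
import Cfsg.Agent.U5.J2
import Cfsg.Agent.U5.T0

/-! Standard unitary subgroups: conjugates of `t` normalising the doubled group. -/

set_option autoImplicit false
set_option linter.unusedSectionVars false

namespace CF.U5

open Cfsg Subgroup Equiv CF.Loc CF.LX CF.Dbl Module Sx
open scoped commutatorElement

variable {K : Type} [Field K] [Fintype K] [CharP K 2] {m q : ℕ} {σ θ : K ≃+* K} {a b c : K}
  {g ξ α p w : Perm (Fin m → K)} {u v : Fin m → K} {A B P H O : Subgroup (Perm (Fin m → K))}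
  {G : Type*} [Group G] [Finite G] {ρ ρ₁ ρ₂ : SU σ m →* G} {t h : G} {F N : Subgroup G}

namespace Dm
variable (d : Dm σ q m)
include d

omit d in
theorem s_el2 {M : Type*} [Group M] {J : Subgroup M} (e : El J) : IsPGroup 2 J :=
  isPGroup_iff_forall.2 fun x i => ⟨1, by simpa [pow_two] using e x i⟩

omit d in
theorem s_elsup {M : Type*} [Group M] {J J' : Subgroup M} (e : El J) (e' : El J') (c : J' ≤ 𝐂(J)) : El (J ⊔ J') := fun x i => by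
  obtain ⟨a, k, b, j, rfl⟩ := (mem_sup_of_le_normalizer (c.trans (centralizer_le_normalizer _))).1 i
  exact Pg.sqm (e a k) (e' b j) (c j a k)

omit d in
theorem s_imG {R J : Subgroup G} {ψ : R →* Perm (Fin m → K)} (l : ∀ r, ψ r ∈ Gam σ m ∧ Ind ρ r (ψ r)) : im ψ J ≤ Gam σ m :=
  im_le.trans (by rintro _ ⟨r, rfl⟩; exact (l r).1)

theorem s_rk0 (k : Ker ρ) {J : Subgroup G} (e : El J) (n : J ≤ 𝐍(ρ.range)) :
    (J ⊓ 𝐂(ρ.range)).relIndex J ≤ q ^ ((m / 2) ^ 2) := by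
  obtain ⟨ψ, a, b, -⟩ := d.lift2 k (s_el2 e) n
  rw [← card_im' le_rfl b]
  exact d.j1 (s_imG a) (el_im e)

theorem s_bd (f : Fr ρ t) (r : R2 ρ t) {J : Subgroup G} (e : El J) (l : J ≤ 𝐂₁(t)) :
    Nat.card J ≤ 2 * q ^ ((m / 2) ^ 2) ∧ (t ∉ J → Nat.card J ≤ q ^ ((m / 2) ^ 2)) := by
  have a := d.s_rk0 f.ker e (l.trans (s_ct f))
  have b := card_mul_relIndex (inf_le_left : J ⊓ 𝐂(ρ.range) ≤ J)
  have c : ∀ x ∈ J ⊓ 𝐂(ρ.range), x = 1 ∨ x = t := fun x i => r x ⟨l i.1, i.2⟩ (e2_inv (e x i.1))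
  refine ⟨b ▸ Nat.mul_le_mul ?_ a, fun n => ?_⟩
  · refine (card_le_card_of_le (K := zpowers t) fun x i => ?_).trans ?_
    · rcases c x i with rfl | rfl
      exacts [one_mem _, mem_zpowers _]
    · rw [Nat.card_zpowers]; exact Nat.le_of_dvd two_pos (orderOf_dvd_of_pow_eq_one (by rw [pow_two, f.t2]))
  · have : J ⊓ 𝐂(ρ.range) = ⊥ := eq_bot_iff.2 fun x i => (c x i).resolve_right fun k => n (k ▸ i.1)
    rwa [this, relIndex_bot_left] at a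

theorem s_g1 (i : Sem σ θ α) (e : α * α = 1) : ∃ B ≤ SU σ m ⊓ 𝐂₁(α), El B ∧ 2 * q ^ ((m / 2) ^ 2) ≤ Nat.card B ^ 2 ∧
    (θ = 1 → 4 * q ^ ((m / 2) ^ 2) ≤ Nat.card B ^ 2) := by
  obtain ⟨g, j, n⟩ := cj_norm d.s_Usyl (R := zpowers α) (isPGroup_zpowers (k := 1) (by simpa [pow_two] using e))
    (zpowers_le.2 (mem_normalizer_of_conj_mem fun x => i.su))
  have i' : Sem σ θ (g * α * g⁻¹) := by simpa using ((su_sem j).mul i).mul (su_sem j).inv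
  obtain ⟨B, l, el, c⟩ := d.g1 i' (by simp [← conj_mul_conj, e]) ((d.U_norm ⟨_, i'⟩).1 (n (conj_mem_cj g (mem_zpowers α))))
  refine ⟨cj[g⁻¹] B, le_inf (cj_le_of_mem (inv_mem j) (l.trans (inf_le_left.trans d.s_USU))) ?_, Pg.el_cj el _, ?_⟩
  · rw [cj_le_iff, inv_inv, cj_centralizer_singleton]; exact l.trans inf_le_right
  · rwa [card_cj]

theorem s_half (k : Ker ρ) (e : h * h = 1) (n : h ∈ 𝐍(ρ.range)) : ∃ J ≤ ρ.range ⊓ 𝐂₁(h), El J ∧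
    2 * q ^ ((m / 2) ^ 2) ≤ Nat.card J ^ 2 ∧ (h ∈ ρ.range ⊔ 𝐂(ρ.range) → 4 * q ^ ((m / 2) ^ 2) ≤ Nat.card J ^ 2) := by
  obtain ⟨ψ, a, -, -⟩ := d.lift2 k (s_t2 e) (zpowers_le.2 n)
  obtain ⟨⟨θ, l⟩, i⟩ := a ⟨h, mem_zpowers h⟩
  obtain ⟨B, b, el, c, c'⟩ := d.s_g1 l (by rw [← map_mul]; exact (congrArg ψ (Subtype.ext e)).trans ψ.map_one)
  refine ⟨im ρ B, le_inf im_le fun x j => ?_, el_im el, ?_⟩
  · obtain ⟨g, y, j', rfl⟩ := mem_im.1 j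
    exact mem_c1.2 (i.cm j' (mem_c1.1 (b y).2).symm).symm
  · rw [d.s_card k (s_el2 el) (b.trans inf_le_left)]
    exact ⟨c, fun j => c' (d.s_lin k l i j)⟩

theorem s_int (f : Fr ρ t) (e : Sp1 ρ ρ₁ t) (i : h ∈ ρ₁.range) (j : h ∈ cj[t] ρ₁.range) (e2 : E2 h) : h = 1 :=
  d.s_cen2 (sp_ker f e) i (le_centralizer_iff.1 (sp_cm f.t2 e) j) e2

theorem s_Q : 0 < q ^ ((m / 2) ^ 2) := Nat.pow_pos (by have := d.two_le; omega)

theorem s_uqa (f : Fr ρ t) (r : R2 ρ t) (e : Sp1 ρ ρ₁ t) (g : G) (i : g * t * g⁻¹ ∈ 𝐍(ρ₁.range ⊔ cj[t] ρ₁.range)) :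
    g * t * g⁻¹ ∉ 𝐍(ρ₁.range) := fun n => by
  have c := sp_cm f.t2 e
  have c' := le_centralizer_iff.1 c
  have x2 : g * t * g⁻¹ * (g * t * g⁻¹) = 1 := by simp [f.t2]
  have n' : g * t * g⁻¹ ∈ 𝐍(cj[t] ρ₁.range) := by
    rcases d.perm f e i with k | k
    · exact cj_eq_self_iff.1 k.2
    · exact (d.s_ne f e ((cj_eq_self n).symm.trans k.1)).elim
  obtain ⟨J, l, el, a, b⟩ := d.s_half (sp_ker f e) x2 n
  obtain ⟨J', l', el', a', b'⟩ := d.s_half (sp_ker f (sp_sym f.t2 e)) x2 (by rwa [ch_range])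
  rw [ch_range] at l' b'
  have cJ : J' ≤ 𝐂(J) := (l'.trans inf_le_left).trans (c'.trans (centralizer_anti (l.trans inf_le_left)))
  have k := card_sup_mul_card_inf' (cJ.trans (centralizer_le_normalizer _))
  rw [show J ⊓ J' = ⊥ from eq_bot_iff.2 fun x j => d.s_int f e (l j.1).1 (l' j.2).1 (e2_inv (el x j.1)), card_bot, mul_one] at k
  obtain ⟨u, w⟩ := d.s_bd f r (Pg.el_cj (s_elsup el el' cJ) g⁻¹) (by
    rw [cj_le_iff, inv_inv, cj_centralizer_singleton]; exact sup_le (l.trans inf_le_right) (l'.trans inf_le_right))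
  rw [card_cj, k] at u w
  have := d.s_Q
  generalize q ^ ((m / 2) ^ 2) = Q at *
  by_cases j : g * t * g⁻¹ ∈ J ⊔ J'
  · have j := sup_le_sup (l.trans inf_le_left) (l'.trans inf_le_left) j
    have := Nat.mul_le_mul (b (sup_le_sup_left c' _ j)) (b' (sup_le (c.trans le_sup_right) le_sup_left j))
    have := Nat.pow_le_pow_left u 2
    rw [mul_pow] at this; nlinarith
  · have := Nat.mul_le_mul a a'
    have := Nat.pow_le_pow_left (w fun k => j (by simpa using mem_cj.1 k)) 2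
    rw [mul_pow] at this; nlinarith

theorem s_eq (k : Ker ρ) (k' : Ker ρ₂) (l : ρ₂.range ≤ ρ.range) : ρ.range = ρ₂.range := by
  have h1 : ∀ {ρ : SU σ m →* G}, Ker ρ → 𝐂(ρ.range).relIndex ρ.range = (center (SU σ m)).index := fun {ρ} k => by
    rw [← index_comap]
    congr 1
    ext g
    rw [mem_comap, ← up_coe, d.cen_iff k g.2, d.center_iff]
  have h2 := relIndex_le_of_le_left (L := ρ₂.range) (centralizer_anti l) index_ne_zero_of_finite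
  have n : 𝐂(ρ.range) ≤ 𝐍(ρ₂.range) := centralizer_le_normalizer_of_le l
  rw [h1 k', ← h1 k, ← relIndex_sup_of_normalizes (.inl n), ← relIndex_sup_of_normalizes (.inl (centralizer_le_normalizer _))] at h2
  have h3 := eq_of_le_of_card_le (sup_le_sup_left l 𝐂(ρ.range)) (by
    rw [← card_mul_relIndex (le_sup_left : 𝐂(ρ.range) ≤ _), ← card_mul_relIndex (le_sup_left : 𝐂(ρ.range) ≤ _ ⊔ ρ₂.range)]
    exact Nat.mul_le_mul_left _ h2)
  have h4 : ρ.range ≤ 𝐂(ρ.range) ⊔ ρ₂.range := h3 ▸ le_sup_right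
  refine le_antisymm ((d.s_perf ρ).trans ((commutator_mono h4 le_rfl).trans (commutator_sup_left_le n le_normalizer ?_
    (commutator_le_left_of_le_normalizer (h4.trans (sup_le n le_normalizer)))))) l
  rw [commutator_comm, commutator_eq_bot_iff_le_centralizer'.2 le_rfl]; exact bot_le

theorem s_dg (t2 : t * t = 1) (k : Ker ρ₁) (c : ρ₁.range ≤ 𝐂(cj[t] ρ₁.range)) : ∃ ρ, Sp1 ρ ρ₁ t ∧ Ker ρ ∧ ρ.range ≤ 𝐂₁(t) := by
  have m : ∀ g, t * ρ₁ g * t ∈ cj[t] ρ₁.range := fun g => by simpa [ti t2] using conj_mem_cj (H := ρ₁.range) t ⟨g, rfl⟩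
  have cm : ∀ g g', ρ₁ g * (t * ρ₁ g' * t) = t * ρ₁ g' * t * ρ₁ g := fun g g' => (c ⟨g, rfl⟩ _ (m g')).symm
  refine ⟨MonoidHom.mk' (fun g => ρ₁ g * (t * ρ₁ g * t)) fun a b => ?_, ⟨cm, fun _ => rfl⟩, fun g i e => ?_, ?_⟩
  · rw [mul_assoc (ρ₁ a), ← mul_assoc _ (ρ₁ b), ← cm, map_mul]
    simp only [mul_assoc]
    rw [← mul_assoc t t, t2, one_mul]
  · rw [up_eq i] at e
    refine (d.cen_iff k i).1 (le_centralizer_iff.1 c ?_)
    rw [up_eq i, eq_inv_of_mul_eq_one_left e]; exact inv_mem (m _)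
  · rintro _ ⟨g, rfl⟩
    rw [mem_c1]
    change ρ₁ g * (t * ρ₁ g * t) * t = t * (ρ₁ g * (t * ρ₁ g * t))
    conv_rhs => rw [cm]
    simp only [mul_assoc, t2, mul_one]
    rw [← mul_assoc t t, t2, one_mul]

theorem uq (f : Fr ρ t) (r : R2 ρ t) (e : Sp1 ρ ρ₁ t) (g : G) (i : g * t * g⁻¹ ∈ 𝐍(ρ₁.range ⊔ cj[t] ρ₁.range)) :
    g ∈ 𝐍(ρ₁.range ⊔ cj[t] ρ₁.range) ∧ g * t * g⁻¹ ∉ 𝐍(ρ₁.range) := by
  have n := d.s_uqa f r e g i
  refine ⟨?_, n⟩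
  have s : cj[t] (ch g⁻¹ ρ₁).range = cj[g⁻¹] (cj[t] ρ₁.range) := by
    have k := ((d.perm f e i).resolve_left fun k => n (cj_eq_self_iff.1 k.1)).1
    rw [← k, ch_range, ← cj_mul, ← cj_mul]; simp [mul_assoc]
  obtain ⟨ρ₃, e', k, l⟩ := d.s_dg f.t2 ((sp_ker f e).cj g⁻¹) (by
    rw [s, ch_range, ← cj_centralizer]; exact cj_mono _ (sp_cm f.t2 e))
  obtain ⟨ξ, ⟨θ, x⟩, y⟩ := d.ind2 f.ker k (d.s_eq f.ker k (d.s_gen fun v a _ _ _ _ =>
    d.der2 f r (commutator_mono l l (d.s_perf _ (up_range _))) ((e2_E _ _ _).up (tv_SU _ _))))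
  let τ : SU σ m →* SU σ m := ((MulAut.conj ξ⁻¹).toMonoidHom.comp (SU σ m).subtype).codRestrict _ fun g => x.inv.su g.2
  have e4 : Sp1 ρ ((ch g⁻¹ ρ₁).comp τ) t := ⟨fun a b => e'.cm _ _, fun a => by
    have := y (τ a) (τ a).2
    rw [up_coe, e'.pr, show ξ * (τ a).1 * ξ⁻¹ = a by simp [τ, mul_assoc], up_coe] at this
    exact this.symm⟩
  have l4 : ((ch g⁻¹ ρ₁).comp τ).range ≤ (ch g⁻¹ ρ₁).range := by rintro _ ⟨a, rfl⟩; exact ⟨τ a, rfl⟩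
  refine mem_normalizer_of_cj_le (cj_le_iff.2 ((d.dbl_uq f r e e4).le.trans ((sup_le_sup l4 (cj_mono t l4)).trans ?_)))
  rw [s, ch_range, cj_sup]

end Dm
end CF.U5
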