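import Cfsg.Agent.U5.E1
import Cfsg.Agent.U5.J2

/-! Centralisers of involutions in the linear model do not embed in the semilinear unitary group. -/

set_option autoImplicit false
set_option linter.unusedSectionVars false
set_option linter.unusedVariables false

namespace CF.U5

open Subgroup Equiv CF.Loc CF.LX CF.Dbl Module Ex

variable {K : Type} [Field K] [Fintype K] [CharP K 2] {m q i j l : ℕ} {σ θ : K ≃+* K} {δ : Perm (Fin m → K)}
  {x : Fin m → K} {D : End K (Fin m → K)}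

namespace Ux
/-- fixed points in `Mo i j` -/
abbrev Fm (h : Iw θ δ) (i j : ℕ) : AddSubgroup (End K (Fin m → K)) := (Mo K m i j).toAddSubgroup ⊓ h.Fx
/-- maps of rank one -/
def r1 (x : Fin m → K) (i : Fin m) : End K (Fin m → K) := (LinearMap.proj i).smulRight x
theorem r1_ap (i : Fin m) (y : Fin m → K) : r1 x i y = y i • x := rfl
theorem r1_Mo {a : Fin m} (h : x ∈ Vf K m i) (e : j ≤ a) : r1 x a ∈ Mo K m i j :=
  ⟨fun _ => Submodule.smul_mem _ _ h, fun y b => by rw [r1_ap, b a e, zero_smul]⟩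
theorem sqF (h : Iw θ δ) (e : i ≤ j) : Sq (Fm h i j) := sq_Mo e inf_le_left
theorem leF (h : Iw θ δ) (e : i ≤ j) : gp (Fm h i j) ≤ UP K m ⊓ 𝐂₁(δ) := le_inf (gp_UP e inf_le_left) h.gp_c
theorem trF (h : Iw θ δ) (a : D ∈ Mo K m i j) : h.ph D + D ∈ Fm h i j := ⟨add_mem (h.ph_Mo a) a, h.tr_Fx D⟩

variable (d : Dm σ q m) (h : Iw θ δ) {φ : ↥(UP K m ⊓ 𝐂₁(δ)) →* Perm (Fin m → K)} (hφ : ∀ c, φ c ∈ Gam σ m)
  (k : ∀ c, φ c = 1 → c = 1 ∨ (c : Perm (Fin m → K)) = δ)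
include d

theorem cM (hi : i ≤ m) (hj : j ≤ m) : Nat.card (Mo K m i j) = q ^ (2 * (i * (m - j))) := by rw [card_Mo hi hj, d.card, ← pow_mul]
theorem low (hi : i ≤ m) (hj : j ≤ m) : q ^ (2 * (i * (m - j))) ≤ Nat.card (Fm h i j) ^ 2 :=
  cM d hi hj ▸ h.le_sq (N := (Mo K m i j).toAddSubgroup) fun _ => h.ph_Mo
theorem two : IsPGroup 2 φ.range := by
  rw [MonoidHom.range_eq_map]
  exact ((UP_two'.to_le inf_le_left).to_subgroup ⊤).map φ
include hφ
theorem rg : φ.range ≤ Gam σ m := fun _ ⟨c, e⟩ => e ▸ hφ c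
include k
theorem up2 : Nat.card (Fm h j j) ≤ 2 * q ^ (m / 2) ^ 2 := (sqF h le_rfl).card ▸ (card_im2 k (leF h le_rfl)).trans
  (Nat.mul_le_mul_left 2 (d.j1 (im_le.trans (rg d hφ)) (im_el gp_el)))
theorem odd (h : Iw θ δ) (e : m = 2 * l + 1) : False := by
  have h1 := (low d h (i := l) (j := l) (by omega) (by omega)).trans (Nat.pow_le_pow_left (up2 d h hφ k) 2)
  have := d.hm
  rw [show m / 2 = l by omega, show m - l = l + 1 by omega, show 2 * (l * (l + 1)) = 2 * l + l ^ 2 * 2 by ring, pow_add, pow_mul q _ 2,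
    mul_pow] at h1
  have := (Nat.pow_le_pow_left d.two_le _).trans (Nat.le_of_mul_le_mul_right h1 (pow_pos (pow_pos (one_pos.trans d.q1) _) _))
  rw [Nat.pow_le_pow_iff_right one_lt_two] at this
  omega
end Ux

theorem Dm.e23 (d : Dm σ q m) (add : ∀ x y, δ (x + y) = δ x + δ y) (smul : ∀ c x, δ (c • x) = θ c • δ x) (f : Fl δ) (e : δ * δ = 1)
    (δ1 : δ ≠ 1) : NE σ m (UP K m ⊓ 𝐂₁(δ)) δ := fun φ hφ k => by
  exact Ux.odd d hφ k (l := 2) ⟨add, smul, f, e⟩ d.hm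

end CF.U5
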